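import Cfsg.Agent.Mrg.Omega.OM.SwapT.Frame
import Cfsg.Agent.Mrg.Omega.OM.SwapK.OffW
import Cfsg.Agent.Mrg.Omega.NO3S.WY.Frame
import Cfsg.Agent.Mrg.Omega.NO3b.Union.Line
import Cfsg.Agent.Mrg.Omega.OM.SWT.CaseLS
import Cfsg.Agent.Mrg.Omega.Node.OmTopQ

section


/-!
# THEOREM SW in the case (L): the sockets `QFix`, `QFam` (quiet minimal parabolics with `K₀ ≰ O₂(Y)`)

`CaseL S P`, `K₀ = O₂(P)`.

* `OffW S P M` : a minimal parabolic `Y ≤ C_G(Z)` over `T`, `B ≤ T ≤ S`, with `lim S ≤ O₂(Y)`, `O₂(P) ≰ O₂(Y)`, `Y ≰ M`, has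
  a best offender on `⟨V_P^Y⟩` in `T`, not in `O₂(Y)` (THEOREM QW);
* `OffW.gen` : the same for every 2-group `T ≥ B`;
* **`qFix_of`**, **`qFam_of`** : the sockets.
-/

set_option autoImplicit false

namespace Cfsg.Agent.Omega.OM.SwapT.QuietL

open Subgroup Cfsg Cfsg.Agent.ZN.ChoiceBase Cfsg.Agent.ZN.ChoiceSit
open Cfsg.Agent.ZN (jj zj bau zc zl o2)
open Cfsg.Agent.MinSimple.MinParabolic (IsMinPar)
open Cfsg.Agent.MinSimple.VModule (oddGen oddGen_le)
open Cfsg.Agent.Omega.NO1.BestOff (Best)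
open Cfsg.Agent.Omega.NO3S.Level (lev nxt Lev lev_isLev BO lim CaseL)
open Cfsg.Agent.Omega.NO3S.WY (WQ)
open Cfsg.Agent.Omega.OM.LevD (LB K0)
open Cfsg.Agent.Omega.OM.Swap.Fam (Fm BF fm_AA fm_best)
open Cfsg.Agent.Omega.OM.SwapL (zc_elab)
open Cfsg.Agent.Omega.OM.SwapK (VF fam_of_off fix_of_off norm_lim_of V_le_VF)

universe u

variable {G : Type u} [Group G] [Finite G]

/-- **THEOREM QW, its conclusion.** -/
def OffW (S : Sylow 2 G) (P M : Subgroup G) : Prop :=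
  ∀ T Y : Subgroup G, WQ S P T Y → BT (S : Subgroup G) (o2 P) ≤ T → lim (S : Subgroup G) ≤ o2 Y →
    Y ≤ centralizer (zc (S : Subgroup G) : Set G) → ¬ Y ≤ M → ∃ A, A ≤ T ∧ Best (VF S P Y) A ∧ ¬ A ≤ o2 Y

omit [Finite G] in
theorem isMinPar_cj {T P : Subgroup G} (g : G) (h : IsMinPar T P) : IsMinPar (cj g T) (cj g P) :=
  MinPar.IsMinPar.map (MulAut.conj g) h

omit [Finite G] in
theorem best_cj {V X : Subgroup G} (g : G) (h : Best V X) : Best (cj g V) (cj g X) where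
  sq := by
    intro a ha
    have h1 := h.sq _ (mem_cj.1 ha)
    rw [← cj_centralizer, mem_cj]
    convert h1 using 1
    rw [pow_two, pow_two]
    group
  comm := by
    intro a ha b hb
    have h1 := h.comm _ (mem_cj.1 ha) _ (mem_cj.1 hb)
    rw [← cj_centralizer, mem_cj]
    convert h1 using 1
    group
  max := by
    intro Y hY hYc
    have e : ∀ A : Subgroup G, cj g V ⊓ centralizer (A : Set G) = cj g (V ⊓ centralizer (cj g⁻¹ A : Set G)) := by
      intro A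
      rw [cj_inf, cj_centralizer, cj_cj_inv]
    have h1 := h.max (cj g⁻¹ Y) (by
      have := cj_mono g⁻¹ hY
      rwa [cj_inv_cj] at this) (by
      have := cj_mono g⁻¹ hYc
      rwa [cj_inf, cj_inv_cj, cj_centralizer, cj_inv_cj] at this)
    rw [e, e, cj_inv_cj, card_cj, card_cj, card_cj]
    rwa [card_cj] at h1

variable {S : Sylow 2 G} {K₀ P M : Subgroup G}

/-- A 2-group over `B` lies in `S^g`, `g ∈ N_G(B)`, and `Ω₁(Z(S^g)) ≤ Ω₁(Z(T))`. -/
theorem exists_norm_B (hw : NO3b.Wc.WC (S : Subgroup G) K₀) (hL : Lev (S : Subgroup G) K₀) {T : Subgroup G} (hT : IsPGroup 2 T)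
    (hB : BT (S : Subgroup G) K₀ ≤ T) : ∃ g ∈ normalizer (BT (S : Subgroup G) K₀ : Set G),
      T ≤ cj g (S : Subgroup G) ∧ zc (cj g (S : Subgroup G)) ≤ zc T := by
  obtain ⟨S', hS'⟩ := hT.exists_le_sylow
  obtain ⟨g, hg⟩ := MulAction.exists_smul_eq G S S'
  have hg2 : (S' : Subgroup G) = cj g (S : Subgroup G) := by
    rw [← hg, Sylow.coe_subgroup_smul]
    rfl
  have hgN : g ∈ normalizer (BT (S : Subgroup G) K₀ : Set G) := by
    have h1 : cj g⁻¹ (BT (S : Subgroup G) K₀) ≤ (S : Subgroup G) := by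
      have := cj_mono g⁻¹ ((hB.trans hS').trans hg2.le)
      rwa [cj_inv_cj] at this
    have h2 := wc hw _ S.isPGroup' (lb hw).BS _ h1
    have h3 := inv_mem (mem_normalizer_iff_cj.2 h2)
    rwa [inv_inv] at h3
  refine ⟨g, hgN, hg2 ▸ hS', ?_⟩
  intro z hz
  have h4 : z ∈ T := by
    rw [NO3S.Level.zc_cj] at hz
    have h5 : zc (S : Subgroup G) ≤ ZT (S : Subgroup G) K₀ := hL.next.zc_le
    have h6 := cj_mono g h5 hz
    rw [cj_eq_of_mem_normalizer ((lb hw).norm_B_le hgN)] at h6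
    exact hB ((lb hw).ZB h6)
  obtain ⟨h5, h6, h7⟩ := mem_zc.1 hz
  exact mem_zc.2 ⟨h4, h6, fun y hy => h7 y (hg2 ▸ hS' hy)⟩

/-- `OffW` for every 2-group `T ≥ B`. -/
theorem OffW.gen (h : CaseL S P) (ho : OffW S P M) (hSM : (S : Subgroup G) ≤ M)
    (hD : centralizer (zl (S : Subgroup G) P : Set G) ≤ M)
    (hN : normalizer (BT (S : Subgroup G) (o2 P) : Set G) ≤ M) {T T₁ F : Subgroup G} (hT : Syl T F)
    (hB : BT (S : Subgroup G) (o2 P) ≤ T) (hT₁ : IsPGroup 2 T₁) (hTT : T ≤ T₁) (hmin : IsMinPar T F)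
    (hc : F ⊓ centralizer (o2 F : Set G) ≤ o2 F) (hl : lim (S : Subgroup G) ≤ o2 F) (hn : ¬ o2 P ≤ o2 F)
    (hz : F ≤ centralizer (zc T₁ : Set G)) (hM : ¬ F ≤ M) :
    ∃ A, A ≤ T ∧ Best (VF S P F) A ∧ ¬ A ≤ o2 F := by
  obtain ⟨g, hg, hle, hzz⟩ := exists_norm_B h.wc h.levQ hT₁ (hB.trans hTT)
  have hgi : g⁻¹ ∈ normalizer (BT (S : Subgroup G) (o2 P) : Set G) := inv_mem hg
  have hgQ : cj g⁻¹ (o2 P) = o2 P := mem_normalizer_iff_cj.1 (norm_K h.wc hgi)
  have hgV : cj g⁻¹ (zl (S : Subgroup G) P) = zl (S : Subgroup G) P :=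
    mem_normalizer_iff_cj.1 (h.norm_o2_le (norm_K h.wc hgi))
  have hgB : cj g⁻¹ (BT (S : Subgroup G) (o2 P)) = BT (S : Subgroup G) (o2 P) := mem_normalizer_iff_cj.1 hgi
  have hgl : cj g⁻¹ (lim (S : Subgroup G)) = lim (S : Subgroup G) :=
    LevD.norm_of_wc (NO3S.Level.wc_lim S) (lb h.wc).Bp (h.lim_le.trans (K_le h.wc)) hgi
  have ho2 : o2 (cj g⁻¹ F) = cj g⁻¹ (o2 F) := o2_cj _ _
  have hgM : g ∈ M := hN hg
  have hVF : VF S P (cj g⁻¹ F) = cj g⁻¹ (VF S P F) := by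
    have := NO3b.Exit.conj_V g⁻¹ (zl (S : Subgroup G) P) F
    rw [hgV] at this
    exact this.symm
  have hnM : ¬ cj g⁻¹ F ≤ M := by
    intro hle'
    apply hM
    have := cj_mono g hle'
    rw [cj_cj_inv] at this
    exact this.trans (cj_eq_of_mem_normalizer (le_normalizer hgM)).le
  have hTS : cj g⁻¹ T ≤ (S : Subgroup G) := by
    have := cj_mono g⁻¹ (hTT.trans hle)
    rwa [cj_inv_cj] at this
  have hBT' : BT (S : Subgroup G) (o2 P) ≤ cj g⁻¹ T := by
    have := cj_mono g⁻¹ hB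
    rwa [hgB] at this
  have hsy : Syl (cj g⁻¹ T) (cj g⁻¹ F) := NO1.JMin.syl_cj hT g⁻¹
  have hcF : cj g⁻¹ F ≤ centralizer (zc (S : Subgroup G) : Set G) := by
    have h1 : F ≤ centralizer (zc (cj g (S : Subgroup G)) : Set G) := hz.trans (centralizer_le hzz)
    have h2 := cj_mono g⁻¹ h1
    rwa [cj_centralizer, NO3S.Level.zc_cj, cj_inv_cj] at h2
  have hwq : WQ S P (cj g⁻¹ T) (cj g⁻¹ F) :=
    { cl := h
      TS := hTS
      QT := (K_le h.wc).trans hBT'
      syl := hsy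
      min := isMinPar_cj g⁻¹ hmin
      c2 := by
        rw [ho2]
        have := cj_mono g⁻¹ hc
        rwa [cj_inf, cj_centralizer] at this
      mvL := by
        intro hcon
        apply hnM
        rw [← Dich.oddGen_sup_syl hsy]
        exact sup_le (hcon.trans hD) (hTS.trans hSM)
      nQ := by
        intro hcon
        apply hn
        rw [ho2] at hcon
        have := cj_mono g hcon
        rw [cj_cj_inv] at this
        refine le_trans (le_of_eq ?_) this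
        rw [← hgQ, cj_cj_inv, hgQ]
      jY := by
        rw [ho2]
        refine ((NO3S.Level.lev_mono (S : Subgroup G) (Nat.zero_le _)).trans hgl.ge).trans (cj_mono g⁻¹ hl) }
  obtain ⟨A, hA, hb, hnA⟩ := ho _ _ hwq hBT' (by rw [ho2]; exact hgl.ge.trans (cj_mono g⁻¹ hl)) hcF hnM
  refine ⟨cj g A, ?_, ?_, fun hcon => hnA ?_⟩
  · have := cj_mono g hA
    rwa [cj_cj_inv] at this
  · rw [hVF] at hb
    have h1 := best_cj g hb
    rwa [cj_cj_inv] at h1
  · rw [ho2]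
    have := cj_mono g⁻¹ hcon
    rwa [cj_inv_cj] at this

/-- `M` contains `S` -/
theorem S_le (hw : NO3b.Wc.WC (S : Subgroup G) K₀) (hN : normalizer (BT (S : Subgroup G) K₀ : Set G) ≤ M) :
    (S : Subgroup G) ≤ M := ((lb hw).two_le S.isPGroup' (lb hw).BS).trans hN

/-- **The socket `QFix`** in the case (L). -/
theorem qFix_of (h : CaseL S P) (ho : OffW S P M) (hD : centralizer (ZT (S : Subgroup G) (o2 P) : Set G) ≤ M)
    (hZV : ZT (S : Subgroup G) (o2 P) ≤ zl (S : Subgroup G) P)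
    (hN : normalizer (BT (S : Subgroup G) (o2 P) : Set G) ≤ M) (H : Subgroup G) : QFix S (o2 P) M H := by
  intro T Y hT hB hY _ hc hn hz hM
  have hlT : lim (S : Subgroup G) ≤ T := (h.lim_le.trans (K_le h.wc)).trans hB
  by_cases hl : lim (S : Subgroup G) ≤ o2 Y
  · have hoff := ho.gen h (S_le h.wc hN) ((centralizer_le (by exact_mod_cast hZV)).trans hD) hN hT hB hT.2.1 le_rfl
      hY hc hl hn hz hM
    exact (inf_le_inf_right _ (hZV.trans V_le_VF)).trans (fix_of_off h h.lim_le hT hY hl hz hoff)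
  · exact inf_le_right.trans (LevD.fixPt S hT hlT hY hl hz)

/-- The family of offenders, `lim S ≰ O₂(F)`. -/
theorem fam_low (h : CaseL S P) {T F : Subgroup G} (hsyl : Syl T F) (hB : BT (S : Subgroup G) (o2 P) ≤ T)
    (hmin : IsMinPar T F) (hD : centralizer (zl (S : Subgroup G) P : Set G) ≤ M) (hTM : T ≤ M) (hM : ¬ F ≤ M)
    (hl : ¬ lim (S : Subgroup G) ≤ o2 F) : FamF S P (o2 P) T F := by
  classical
  have hT2 := hsyl.2.1
  have hlT : lim (S : Subgroup G) ≤ T := (h.lim_le.trans (K_le h.wc)).trans hB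
  have hall : ∀ n, lev (S : Subgroup G) n ≤ lim (S : Subgroup G) := fun n => NO3S.Level.lev_le_lim _ n
  have hcV : ∀ a ∈ lim (S : Subgroup G), ∀ v ∈ zl (S : Subgroup G) P, a * v = v * a := by
    intro a ha v hv
    rw [← h.zc_eq] at hv
    exact (mem_zc.1 hv).2.2 a (h.lim_le ha)
  by_cases hJ : jj (S : Subgroup G) ≤ o2 F
  swap
  · -- stage `-1`
    have h0T : jj (S : Subgroup G) ≤ T := (hall 0).trans hlT
    have hjT : jj T = jj (S : Subgroup G) := MinSimple.EmptyTI.jj_eq S hT2 h0T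
    refine ⟨AA F, fun Λ hΛ hΛF hn _ => fm_AA hΛ hΛF hn, ?_, fun X hX hXT => ?_⟩
    · by_contra hcon
      push Not at hcon
      apply hJ
      rw [← hjT, Cfsg.Agent.ZN.ChoiceBase.jj_eq]
      exact sSup_le fun X hX => hcon X (Swap.AA_of_syl hsyl hX) hX.2.1
    · have h1 : X ≤ lev (S : Subgroup G) 0 := by
        have := le_jj (Swap.AA_of_le hX hXT hsyl.1)
        rwa [hjT] at this
      exact ⟨((h1.trans (hall 0)).trans h.lim_le).trans (K_le h.wc),
        Or.inl fun a ha v hv => hcV a (hall 0 (h1 ha)) v hv⟩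
  · -- the last level in `O₂(F)`
    obtain ⟨s, hlow, hnle⟩ : ∃ s, lev (S : Subgroup G) s ≤ o2 F ∧ ¬ lev (S : Subgroup G) (s + 1) ≤ o2 F := by
      by_contra hcon
      push Not at hcon
      have : ∀ n, lev (S : Subgroup G) n ≤ o2 F := by
        intro n
        induction n with
        | zero => exact hJ
        | succ n ih => exact hcon n ih
      exact hl (this _)
    have hX := zc_elab (lev (S : Subgroup G) s)
    have hFN : F ≤ normalizer (zc (lev (S : Subgroup G) s) : Set G) :=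
      (le_normalizer_o2 F).trans ((LB.lev S s).nrm _ (isPGroup_o2 F) hlow)
    have hlev : ∀ j, lev T j = lev (S : Subgroup G) j := fun j =>
      LevD.lev_eq S hT2 ((hall j).trans hlT) j le_rfl
    have hVX : zl (S : Subgroup G) P ≤ zc (lev (S : Subgroup G) s) := by
      rw [← h.zc_eq]
      exact (lev_isLev (S : Subgroup G) s).zc_le_zc ((hall s).trans h.lim_le) h.wc.le
    refine ⟨BF F (zc (lev (S : Subgroup G) s)), fun Λ hΛ hΛF hn hle => fm_best hX hFN ?_ hn, ?_, fun X hXA hXT => ?_⟩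
    · refine hle.trans (NoFF.Basic.V_le fun f hf => ?_)
      have h1 := cj_mono f hVX
      rwa [cj_eq_of_mem_normalizer (hFN hf)] at h1
    · by_contra hcon
      push Not at hcon
      apply hnle
      rw [← hlev (s + 1)]
      have e : lev T (s + 1) = nxt T (lev T s) := rfl
      rw [e, hlev s]
      have : Fact (Nat.Prime 2) := ⟨Nat.prime_two⟩
      have hNn : F ≤ normalizer ((F ⊓ centralizer (zc (lev (S : Subgroup G) s) : Set G) : Subgroup G) : Set G) := by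
        intro f hf
        rw [mem_normalizer_iff_cj, cj_inf, cj_centralizer, cj_eq_of_mem_normalizer (hFN hf),
          cj_eq_of_mem_normalizer (le_normalizer hf)]
      refine sup_le ?_ (sSup_le fun X hX' => hcon X ⟨hX'.1.trans hsyl.1, hT2.to_le hX'.1, hX'.2⟩ hX'.1)
      rcases hmin.sup_eq_or_inf_le (p := 2) hT2 (syl_not_dvd hsyl)
        (N := F ⊓ centralizer (zc (lev (S : Subgroup G) s) : Set G)) inf_le_left hNn with h1 | h1
      · exfalso
        apply hM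
        rw [← h1]
        refine sup_le ((inf_le_right.trans (centralizer_le ?_)).trans hD) hTM
        exact_mod_cast hVX
      · refine le_trans (fun x hx => ?_) h1
        exact ⟨hx.1, hsyl.1 hx.1, hx.2⟩
    · have h1 : X ≤ lev (S : Subgroup G) (s + 1) := by
        rw [← hlev (s + 1)]
        have e : lev T (s + 1) = nxt T (lev T s) := rfl
        rw [e, hlev s]
        exact NO3S.Level.BO.le_nxt ⟨hXT, hXA.2.2⟩
      exact ⟨((h1.trans (hall _)).trans h.lim_le).trans (K_le h.wc),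
        Or.inl fun a ha v hv => hcV a (hall _ (h1 ha)) v hv⟩

/-- **The socket `QFam`** in the case (L). -/
theorem qFam_of (h : CaseL S P) (ho : OffW S P M) (hD : centralizer (ZT (S : Subgroup G) (o2 P) : Set G) ≤ M)
    (hZV : ZT (S : Subgroup G) (o2 P) ≤ zl (S : Subgroup G) P)
    (hN : normalizer (BT (S : Subgroup G) (o2 P) : Set G) ≤ M) (H : Subgroup G) : QFam S P (o2 P) M H := by
  intro T F hp hq hn
  have hD' : centralizer (zl (S : Subgroup G) P : Set G) ≤ M := (centralizer_le (by exact_mod_cast hZV)).trans hD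
  have hZM : normalizer (ZT (S : Subgroup G) (o2 P) : Set G) ≤ M := (lb h.wc).norm_zj_le.trans (sup_le hD hN)
  have hmin := hp.minPar h.wc hZM
  have hTM : T ≤ M := ((lb h.wc).two_le hp.syl.2.1 hp.BT).trans hN
  by_cases hl : lim (S : Subgroup G) ≤ o2 F
  · obtain ⟨T₀, Y, hT₀, hB₀, hY, -, hcY, hzY, -, hFY, hOF⟩ := hq
    obtain ⟨T₁, hT₁, hTT₁⟩ := exists_syl hp.syl.2.1 (hp.syl.1.trans hFY)
    obtain ⟨y, hy, rfl⟩ := syl_conj hT₀ hT₁
    have hz1 : F ≤ centralizer (zc (cj y T₀) : Set G) := by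
      have h1 := cj_mono y hzY
      rw [cj_eq_of_mem_normalizer (le_normalizer hy), cj_centralizer, ← NO3S.Level.zc_cj] at h1
      exact hFY.trans h1
    have hcF : F ⊓ centralizer (o2 F : Set G) ≤ o2 F := by
      rintro x ⟨hx, hxc⟩
      exact hOF (hcY ⟨hFY hx, centralizer_le (by exact_mod_cast hOF) hxc⟩)
    have hoff := ho.gen h (S_le h.wc hN) hD' hN hp.syl hp.BT hT₁.2.1 hTT₁ hmin hcF hl hn hz1 hp.nM
    obtain ⟨𝓐, h1, h2, h3⟩ := fam_of_off h h.lim_le hp.syl hp.BT hl hoff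
    exact ⟨𝓐, h1, h2, fun X hX hXT => ⟨(h3 X hX hXT).1,
      (h3 X hX hXT).2.imp id fun hb F' h4 h5 => hb.max F' h5 h4⟩⟩
  · exact fam_low h hp.syl hp.BT hmin hD' hTM hp.nM hl

end Cfsg.Agent.Omega.OM.SwapT.QuietL

end

section


/-!
# (Om) over the case (L) of GammaFF: the sockets of `SWT/Base.lean` from `QuietL.OffW` and LAMBDA

`M ≥ S, C_G(Z_J), N_G(B)`.

* `LowM h M H` : the minimal parabolics `Y ≤ H` over a 2-group `T ≥ B` with `lim S ≤ O₂(Y)`, `O₂(P) ≰ O₂(Y)`, which move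
  `Ω₁(Z(T))`, lie in `M`;
* `LamS S P M` : the same for `B ≤ T ≤ S`, `Y ≤ C_G(Ω₁Z(S))`, over helper194's `WY`; `lowM_of`;
* `bm_ofM`, `qfix_ofM`, `qfam_ofM`; `lowM_cj`.
-/

set_option autoImplicit false
set_option linter.unusedSectionVars false

namespace Cfsg.Agent.Omega.OM.SWT

open Subgroup Cfsg Cfsg.Agent.ZN.ChoiceBase Cfsg.Agent.ZN.ChoiceSit
open Cfsg.Agent.ZN (jj zj bau zc zl o2)
open Cfsg.Agent.MinSimple.MinParabolic (IsMinPar)
open Cfsg.Agent.MinSimple.VModule (oddGen oddGen_le)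
open Cfsg.Agent.Omega.NO1.BestOff (Best)
open Cfsg.Agent.Omega.NO3S.Level (Lev nxt lim lev_isLev lev_le_lim CaseL)
open Cfsg.Agent.Omega.NO3S.WY (WQ WY)
open Cfsg.Agent.Omega.OM.LevB (FBlk)
open Cfsg.Agent.Omega.OM.SwapK (VF V_le_VF fam_of_off fix_of_off)
open Cfsg.Agent.Omega.OM.SwapT.QuietL (OffW)

universe u

variable {G : Type u} [Group G] [Finite G] {S : Sylow 2 G} {P : Subgroup G}

/-- **LL** for the `Y` with `lim S ≤ O₂(Y)`, `O₂(P) ≰ O₂(Y)`. -/
def LowM (h : CaseL S P) (M H : Subgroup G) : Prop :=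
  ∀ T Y : Subgroup G, Syl T Y → BT (nL h) ≤ T → IsMinPar T Y → Y ⊓ centralizer (o2 Y : Set G) ≤ o2 Y → Y ≤ H →
    lim (S : Subgroup G) ≤ o2 Y → ¬ o2 P ≤ o2 Y → ¬ Y ≤ centralizer (zc T : Set G) → Y ≤ M

/-- **LAMBDA, its conclusion.** -/
def LamS (S : Sylow 2 G) (P M : Subgroup G) : Prop :=
  ∀ T Y : Subgroup G, WY S P T Y → SwapT.BT (S : Subgroup G) (o2 P) ≤ T → lim (S : Subgroup G) ≤ o2 Y →
    Y ≤ centralizer (zc (S : Subgroup G) : Set G) → Y ≤ M

section one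

variable (h : CaseL S P) {M H : Subgroup G}

theorem offC_of (ho : OffW S P M) (hSM : (S : Subgroup G) ≤ M) (hD : centralizer (zl (S : Subgroup G) P : Set G) ≤ M)
    (hN : normalizer (BT (nL h) : Set G) ≤ M) : OffC h M H := fun _ _ hq hl hK =>
  ho.gen h hSM hD hN hq.syl hq.BT hq.syl.2.1 le_rfl hq.min hq.char2 hl hK hq.quiet hq.nM

theorem bm_ofM {ι : Type} [Finite ι] {L W Z C A : ι → Subgroup G} {q : ℕ} (hl : Ln P (nL h) L W Z C A q) (hq : 2 < q)
    (hL : LowM h M H) (hX : ∀ L' V' : Subgroup G, FBlk (BT (nL h)) L' V' → V' ≤ zl (S : Subgroup G) P → L' ≤ M)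
    (hN : normalizer (BT (nL h) : Set G) ≤ M) : BM (nL h) M H := by
  intro T Y hT hB hP hc hH hn hZ
  by_cases hK : o2 P ≤ o2 Y
  · obtain ⟨L', V', -, h2, h3, h4⟩ := exists_fblk h (hl.fr.ZJV) hT hB hP hc hK hn hZ
    exact h4.trans (sup_le (((lb (nL h)).two_le hT.2.1 hB).trans hN) (hX L' V' h2 h3))
  · exact hL T Y hT hB hP hc hH (low_lim h hl hq hT hB hP hc hZ) hK hZ

theorem qfam_ofM (ho : OffW S P M) (hZM : normalizer (ZT (nL h) : Set G) ≤ M) (hSM : (S : Subgroup G) ≤ M)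
    (hD : centralizer (zl (S : Subgroup G) P : Set G) ≤ M) (hN : normalizer (BT (nL h) : Set G) ≤ M) :
    QFam P (nL h) M H := by
  intro T F hp hw
  have hl := wrd_lim h hw
  obtain ⟨T₀, Y, hY, hFY, hOF⟩ := hp.inQ
  obtain ⟨T₁, hT₁, hTT₁⟩ := exists_syl hp.syl.2.1 (hp.syl.1.trans hFY)
  obtain ⟨y, hy, rfl⟩ := syl_conj hY.syl hT₁
  have hz1 : F ≤ centralizer (zc (cj y T₀) : Set G) := by
    have h1 := cj_mono y hY.quiet
    rw [cj_eq_of_mem_normalizer (le_normalizer hy), cj_centralizer, ← NO3S.Level.zc_cj] at h1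
    exact hFY.trans h1
  have hcF : F ⊓ centralizer (o2 F : Set G) ≤ o2 F := by
    rintro x ⟨hx, hxc⟩
    exact hOF (hY.char2 ⟨hFY hx, centralizer_le (by exact_mod_cast hOF) hxc⟩)
  have hoff := ho.gen h hSM hD hN hp.syl hp.BT hT₁.2.1 hTT₁ (hp.minPar hZM) hcF hl hw.nK hz1 hp.nM
  obtain ⟨𝓐, h1, h2, h3⟩ := fam_of_off h h.lim_le hp.syl hp.BT hl hoff
  exact ⟨𝓐, h1, h2, fun X hX hXT => ⟨(h3 X hX hXT).1,
    (h3 X hX hXT).2.imp id fun hb F' h4 h5 => hb.max F' h5 h4⟩⟩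

theorem lowM_cj {m : G} (hL : LowM h M H) (hN : normalizer (BT (nL h) : Set G) ≤ M)
    (hm : m ∈ normalizer (BT (nL h) : Set G)) : LowM h M (cj m H) := by
  intro T Y hT hB hP hc hH hl hK hZ
  have hm' := inv_mem hm
  obtain ⟨e1, -, -⟩ := norm_all h hm'
  have hlw : cj m⁻¹ (lim (S : Subgroup G)) = lim (S : Subgroup G) :=
    LevD.norm_of_wc (NO3S.Level.wc_lim S) (lb (nL h)).Bp
      ((h.lim_le.trans (nL h).K_le_nx).trans (lb (nL h)).KB) hm'
  have h1 := hL (cj m⁻¹ T) (cj m⁻¹ Y) (ZN.CaseTwo.syl_cj m⁻¹ hT) (by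
    have := cj_mono m⁻¹ hB
    rwa [cj_eq_of_mem_normalizer hm'] at this) (NOThree.NoOver.isMinPar_cj m⁻¹ hP) (cj_char2 m⁻¹ hc) (by
    have := cj_mono m⁻¹ hH
    rwa [cj_inv_cj] at this) (by
    rw [o2_cj, ← hlw]
    exact cj_mono m⁻¹ hl) (fun hle => hK (by
    rw [o2_cj, ← e1] at hle
    have := cj_mono m hle
    rwa [cj_cj_inv, cj_cj_inv] at this)) (fun hle => hZ (by
    rw [LemmaK.Main.zc_cj, ← cj_centralizer] at hle
    have := cj_mono m hle
    rwa [cj_cj_inv, cj_cj_inv] at this))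
  have := cj_mono m h1
  rwa [cj_cj_inv, cj_eq_of_mem_normalizer (le_normalizer (hN hm))] at this

/-- `LowM` in `C_G(Ω₁Z(S))` from `LamS`. -/
theorem lowM_of (hL : LamS S P M) (hSM : (S : Subgroup G) ≤ M)
    (hD : centralizer (zl (S : Subgroup G) P : Set G) ≤ M) (hN : normalizer (BT (nL h) : Set G) ≤ M) :
    LowM h M (centralizer (zc (S : Subgroup G) : Set G)) := by
  intro T Y hT hB hP hc hH hl hK hZ
  have hSH : (S : Subgroup G) ≤ centralizer (zc (S : Subgroup G) : Set G) := NO3S.Level.le_centralizer_zc _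
  have hsyl : Syl (S : Subgroup G) (centralizer (zc (S : Subgroup G) : Set G)) := ZN.CaseTwo.syl_of_sylow S hSH
  obtain ⟨T₁, hT₁, hTT₁⟩ := exists_syl hT.2.1 (hT.1.trans hH)
  obtain ⟨x, hx, rfl⟩ := syl_conj hsyl hT₁
  have hxB : x⁻¹ ∈ normalizer (BT (nL h) : Set G) := by
    have h1 : cj x⁻¹ (BT (nL h)) ≤ (S : Subgroup G) := by
      have := cj_mono x⁻¹ (hB.trans hTT₁)
      rwa [cj_inv_cj] at this
    exact mem_normalizer_iff_cj.2 (wc (nL h) _ S.isPGroup' (lb (nL h)).BS _ h1)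
  obtain ⟨e1, -, -⟩ := norm_all h hxB
  have hlw : cj x⁻¹ (lim (S : Subgroup G)) = lim (S : Subgroup G) :=
    LevD.norm_of_wc (NO3S.Level.wc_lim S) (lb (nL h)).Bp
      ((h.lim_le.trans (nL h).K_le_nx).trans (lb (nL h)).KB) hxB
  have hTS : cj x⁻¹ T ≤ (S : Subgroup G) := by
    have := cj_mono x⁻¹ hTT₁
    rwa [cj_inv_cj] at this
  have hxM : x ∈ M := by
    have := inv_mem (hN hxB)
    rwa [inv_inv] at this
  have hsy : Syl (cj x⁻¹ T) (cj x⁻¹ Y) := ZN.CaseTwo.syl_cj x⁻¹ hT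
  have hBT : BT (nL h) ≤ cj x⁻¹ T := by
    have := cj_mono x⁻¹ hB
    rwa [cj_eq_of_mem_normalizer hxB] at this
  have hYM : cj x⁻¹ Y ≤ M → Y ≤ M := fun hle => by
    have := cj_mono x hle
    rwa [cj_cj_inv, cj_eq_of_mem_normalizer (le_normalizer hxM)] at this
  by_cases hmv : oddGen (cj x⁻¹ Y) ≤ centralizer (zl (S : Subgroup G) P : Set G)
  · apply hYM
    rw [← Dich.oddGen_sup_syl hsy]
    exact sup_le (hmv.trans hD) (hTS.trans hSM)
  refine hYM (hL (cj x⁻¹ T) (cj x⁻¹ Y) ?_ hBT ?_ ?_)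
  · exact
      { cl := h
        TS := hTS
        QT := ((nL h).K_le_nx.trans (lb (nL h)).KB).trans hBT
        syl := hsy
        min := NOThree.NoOver.isMinPar_cj x⁻¹ hP
        c2 := cj_char2 x⁻¹ hc
        mvL := hmv
        nQ := fun hle => hK (by
          rw [o2_cj, ← e1] at hle
          have := cj_mono x hle
          rwa [cj_cj_inv, cj_cj_inv] at this)
        jY := by
          rw [o2_cj]
          exact ((NO3S.Level.lev_mono (S : Subgroup G) (Nat.zero_le _)).trans hlw.ge).trans (cj_mono x⁻¹ hl)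
        mv := fun hle => hZ (by
          rw [LemmaK.Main.zc_cj, ← cj_centralizer] at hle
          have := cj_mono x hle
          rwa [cj_cj_inv, cj_cj_inv] at this) }
  · rw [o2_cj]
    exact hlw.ge.trans (cj_mono x⁻¹ hl)
  · have := cj_mono x⁻¹ hH
    rwa [cj_eq_of_mem_normalizer (le_normalizer (inv_mem hx))] at this

end one

end Cfsg.Agent.Omega.OM.SWT

end

section


/-!
# (Om) over the case (L) of GammaFF, natural blocks, `q ≥ 4`: from THEOREM QW and LAMBDA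

* `OffHQ K` (THEOREM QW), `LamHQ K` (LAMBDA) : the sockets for the minimal parabolics `Y ≤ C_G(Ω₁Z(S))` with
  `lim S ≤ O₂(Y)`, `O₂(P) ≰ O₂(Y)`, `Y ≰ M`;
* `omX_of_lam : CoreQ → OffHQ K → LamHQ K → OmX K (4 ≤ q)`.
-/

set_option autoImplicit false
set_option linter.unusedSectionVars false

namespace Cfsg.Agent.Omega.Node.OmTopQ

open Subgroup Cfsg Cfsg.Agent.ZN.ChoiceBase Cfsg.Agent.ZN.ChoiceSit
open Cfsg.Agent.ZN (jj zj bau zc zl o2)
open Cfsg.Agent.Omega.NO3S.Level (nxt Lev CaseL)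
open Cfsg.Agent.Omega.NO3S.OneLine (NatC)
open Cfsg.Agent.Omega.FFThm (NatK NatKM)
open Cfsg.Agent.Omega.FrameFF (cv)
open Cfsg.Agent.Omega.FrameNOFF (CZ)
open Cfsg.Agent.Omega.Frame (Cls)
open Cfsg.Agent.Omega.OM
open Cfsg.Agent.Omega.OM.LevB (FBlk)
open Cfsg.Agent.Omega.OM.SWT
open Cfsg.Agent.Omega.OM.SwapT.QuietL (OffW)
open Cfsg.Agent.Omega.MinPar (IsLoc)
open Cfsg.Agent.Omega.Node.MultiOf (FBl)
open Cfsg.Agent.Omega.Node.MulX

universe u

section one

variable {G : Type u} [Group G] [Finite G] {S : Sylow 2 G} {P B ZJ : Subgroup G} {k : ℕ}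
  {L W Z C A : Fin k → Subgroup G} {q : ℕ}

theorem OmC.hP (h : OmC S P B ZJ L W Z C A q) :
    P ≤ normalizer (o2 (KX B ZJ (zl (S : Subgroup G) P)) : Set G) ∧
    IsLoc (S : Subgroup G) (normalizer (o2 (KX B ZJ (zl (S : Subgroup G) P)) : Set G)) := by
  have hcl := h.mul.cl
  have eB : B = BT (nL hcl) := h.mul.eqB
  have eZ : ZJ = ZT (nL hcl) := h.mul.eZ
  have hZV : ZT (nL hcl) ≤ zl (S : Subgroup G) P := by rw [← eZ]; exact h.mul.fr.ZJV
  have hKX : KX B ZJ (zl (S : Subgroup G) P) ≤ normalizer (o2 (KX B ZJ (zl (S : Subgroup G) P)) : Set G) :=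
    le_sup_left.trans h.le
  have hN : normalizer (BT (nL hcl) : Set G) ≤ normalizer (o2 (KX B ZJ (zl (S : Subgroup G) P)) : Set G) := by
    rw [← eB]; exact le_sup_right.trans h.le
  have hSX : (S : Subgroup G) ≤ normalizer (o2 (KX B ZJ (zl (S : Subgroup G) P)) : Set G) :=
    ((lb (nL hcl)).two_le S.isPGroup' (lb (nL hcl)).BS).trans hN
  have hst := hcl.hypN.star
  obtain ⟨L₁, V₁, -, h2, h3, h4⟩ := exists_fblk hcl hZV hcl.hypN.toHyp.syl (lb (nL hcl)).BS hst.toIsMinPar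
    (hst.isLoc.char2 S hcl.ctx.char2) le_rfl (MulG.top_caseL hcl).nxt
    (fun hc => hst.not_zc (hc.trans (centralizer_le_normalizer _)))
  rw [← eB] at h2
  refine ⟨h4.trans (sup_le hSX ((blk_le ⟨⟨h2.fb, h2.blk⟩, h3⟩).trans hKX)), hSX, fun e => h.ne ?_⟩
  rw [eq_bot_iff, ← e]
  exact le_o2 (isPGroup_o2 _) le_normalizer le_rfl

/-- **(Om) is impossible in the case (L), `q ≥ 4`.** -/
theorem OmC.false_lam (hcore : CoreQ.{u}) (h : OmC S P B ZJ L W Z C A q) (hq : 4 ≤ q)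
    (ho : OffW S P (normalizer (o2 (KX B ZJ (zl (S : Subgroup G) P)) : Set G)))
    (hL : LamS S P (normalizer (o2 (KX B ZJ (zl (S : Subgroup G) P)) : Set G))) : False := by
  have hcl := h.mul.cl
  obtain ⟨hP, -⟩ := h.hP
  set X : Subgroup G := normalizer (o2 (KX B ZJ (zl (S : Subgroup G) P)) : Set G) with hX
  have eB : B = BT (nL hcl) := h.mul.eqB
  have eZ : ZJ = ZT (nL hcl) := h.mul.eZ
  obtain ⟨F, _, _, _, hF, ⟨N⟩⟩ := h.mul.nat
  obtain ⟨M, L', Z', A', -, D⟩ := exists_dt (n := nL hcl) hcl.hypN le_rfl (MulG.exists_BO_caseL hcl) h.k2 N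
  have hZV : ZT (nL hcl) ≤ zl (S : Subgroup G) P := by rw [← eZ]; exact h.mul.fr.ZJV
  have hKX : KX B ZJ (zl (S : Subgroup G) P) ≤ X := le_sup_left.trans h.le
  have hN : normalizer (BT (nL hcl) : Set G) ≤ X := by rw [← eB]; exact le_sup_right.trans h.le
  have hD : centralizer (ZT (nL hcl) : Set G) ≤ X := by rw [← eZ]; exact cent_le.trans hKX
  have hblk : ∀ L' V' : Subgroup G, FBlk (BT (nL hcl)) L' V' → V' ≤ zl (S : Subgroup G) P → L' ≤ X := by
    intro L' V' h1 h2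
    rw [← eB] at h1
    exact (blk_le ⟨⟨h1.fb, h1.blk⟩, h2⟩).trans hKX
  have hSX : (S : Subgroup G) ≤ X := ((lb (nL hcl)).two_le S.isPGroup' (lb (nL hcl)).BS).trans hN
  have hZM : normalizer (ZT (nL hcl) : Set G) ≤ X := by
    have h1 := LevD.norm_le_M (𝓑 := fun _ _ => False) (lb (nL hcl))
      (sup_le hD (iSup_le fun i => i.2.elim)) hN
    exact h1
  have hDV : centralizer (zl (S : Subgroup G) P : Set G) ≤ X := (centralizer_le (by exact_mod_cast hZV)).trans hD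
  have hLX : ∀ i, L' i ≤ X := fun i =>
    hblk (L' i) _ ⟨⟨_, _, D.bg.fr.blk i⟩, D.bg.block i⟩ fun v hv => hv.1
  have hCZ : CZ (S : Subgroup G) ≤ X := by
    refine hcore G S P (nL hcl) F k M L' Z' A' D (by rw [hF]; exact hq) X (fun m hm => ?_) (fun m hm => ?_)
      (fun m hm => ?_) hLX hP hD hN
    · exact bm_ofM hcl D.ln (by rw [hF]; omega) (lowM_cj hcl (lowM_of hcl hL hSX hDV hN) hN hm) hblk hN
    · exact qfix_of hcl hZV (offC_of hcl ho hSX hDV hN)
    · exact qfam_ofM hcl ho hZM hSX hDV hN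
  exact h.ne (hcl.hypN.nonLoc _ (isPGroup_o2 _) hP hCZ)

end one

section sockets

variable (K : Cls.{u})

/-- **THEOREM QW**, case (L), natural, `q ≥ 4`. -/
def OffHQ : Prop :=
  ∀ (G : Type u) [Group G] [Finite G], K G → ∀ (S : Sylow 2 G) (P B ZJ : Subgroup G) (k : ℕ)
    (L W Z C A : Fin k → Subgroup G) (q : ℕ), 2 ≤ k → 4 ≤ q → MulL S P B ZJ L W Z C A q →
      ∀ M : Subgroup G, IsLoc (S : Subgroup G) M → P ≤ M → centralizer (ZJ : Set G) ≤ M →
        normalizer (B : Set G) ≤ M → OffW S P M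

/-- **LAMBDA**, case (L), natural, `q ≥ 4`. -/
def LamHQ : Prop :=
  ∀ (G : Type u) [Group G] [Finite G], K G → ∀ (S : Sylow 2 G) (P B ZJ : Subgroup G) (k : ℕ)
    (L W Z C A : Fin k → Subgroup G) (q : ℕ), 2 ≤ k → 4 ≤ q → MulL S P B ZJ L W Z C A q →
      ∀ M : Subgroup G, IsLoc (S : Subgroup G) M → P ≤ M → centralizer (ZJ : Set G) ≤ M →
        normalizer (B : Set G) ≤ M → OffW S P M → LamS S P M

end sockets

/-- **(Om), case (L), natural, `q ≥ 4`.** -/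
theorem omX_of_lam {K : Cls.{u}} (hcore : CoreQ.{u}) (hO : OffHQ K) (hL : LamHQ K) : OmX K fun _ q => 4 ≤ q := by
  intro G _ _ hK S P B ZJ k L W Z C A q hk hq hM h1 h2 h3
  have h : OmC S P B ZJ L W Z C A q := ⟨hM, hk, h1, h2, h3⟩
  have h4 := hO G hK S P B ZJ k L W Z C A q hk hq hM _ h.hP.2 h.hP.1 ((cent_le.trans le_sup_left).trans h.le)
    (le_sup_right.trans h.le)
  exact (h.false_lam hcore hq h4 (hL G hK S P B ZJ k L W Z C A q hk hq hM _ h.hP.2 h.hP.1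
    ((cent_le.trans le_sup_left).trans h.le) (le_sup_right.trans h.le) h4)).elim

end Cfsg.Agent.Omega.Node.OmTopQ

end
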