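import Cfsg.Agent.Mrg.Omega.OM.SwapL.Mod
import Cfsg.Agent.Mrg.Omega.Node.MulG
import Cfsg.Agent.Mrg.Omega.OM.Swap.Pair
import Cfsg.Agent.Mrg.Omega.OM.Lev.GSym
import Cfsg.Agent.Mrg.Omega.OM.SwapL.Off

section


/-!
# THEOREM SW over a general top level `K₀`, STEP 0: the ground frame

The port of `OM/SwapL/Frame.lean` (`K₀ = lev S n`) to a weakly closed level `K₀`, `K = nxt S K₀`:

* `ZT S K₀ = Ω₁Z(nxt S K₀)`, `BT S K₀ = C_S(ZT S K₀)`;
* `Lt S P K₀ L W Z C A q` : `HypN S P`, `K₀ ≤ O₂(P)` a weakly closed level, and the frame `FrL` over `BT S K₀`,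
  `X = Ω₁Z(K₀)`, with at least two blocks;
* `perm` (`q = 2`) : `N_G(B)` permutes the triples `(W i, Z i, Z_J ∩ C i)`; supports of the elements of `Z_J`.
-/

set_option autoImplicit false

namespace Cfsg.Agent.Omega.OM.SwapT

open Subgroup Cfsg Cfsg.Agent.ZN.ChoiceBase Cfsg.Agent.ZN.ChoiceSit
open Cfsg.Agent.ZN (jj zj bau zc zl o2)
open Cfsg.Agent.Omega.NO3S (HypN)
open Cfsg.Agent.Omega.NO3S.Level (lev nxt Lev wc_nxt)
open Cfsg.Agent.Omega.OM.LevD (LB)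
open Cfsg.Agent.Omega.OM.Lev.Uni (FrL)
open Cfsg.Agent.Omega.OM.UniPlus (NB)
open Cfsg.Agent.Omega.OM.WeakCl (WC)
open Cfsg.Agent.Omega.OM.SwapL (nb mem_C_iff cj_mul_eq cj_inv_eq)

universe u

variable {G : Type u} [Group G] [Finite G]

/-- `Z_J = Ω₁Z(nxt S K₀)` -/
noncomputable def ZT (S K₀ : Subgroup G) : Subgroup G := zc (nxt S K₀)

/-- `B = C_S(Z_J)` -/
noncomputable def BT (S K₀ : Subgroup G) : Subgroup G := S ⊓ centralizer (zc (nxt S K₀) : Set G)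

/-- The ground frame at the top level `K₀`. -/
structure Lt {ι : Type} (S : Sylow 2 G) (P K₀ : Subgroup G) (L W Z C A : ι → Subgroup G) (q : ℕ) : Prop where
  hyp : HypN S P
  wcK : NO3b.Wc.WC (S : Subgroup G) K₀
  lev : Lev (S : Subgroup G) K₀
  le : K₀ ≤ o2 P
  fr : FrL (BT (S : Subgroup G) K₀) (o2 P) (zl (S : Subgroup G) P) (zc K₀) (ZT (S : Subgroup G) K₀) L W Z C A q
  two : ∀ i : ι, ∃ j, j ≠ i

variable {S : Sylow 2 G} {K₀ : Subgroup G}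

theorem lb (h : NO3b.Wc.WC (S : Subgroup G) K₀) :
    LB S (nxt (S : Subgroup G) K₀) (BT (S : Subgroup G) K₀) (ZT (S : Subgroup G) K₀) := Node.MulG.lb_nxt h

theorem wc (h : NO3b.Wc.WC (S : Subgroup G) K₀) : WC (BT (S : Subgroup G) K₀) :=
  (lb h).wc (wc_nxt h) (NO3S.Level.normalizer_le_zc _)

theorem K_le (h : NO3b.Wc.WC (S : Subgroup G) K₀) : K₀ ≤ BT (S : Subgroup G) K₀ :=
  (NO3S.Level.le_nxt h.le).trans (lb h).KB

/-- `N_G(B) ≤ N_G(K₀)` -/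
theorem norm_K (h : NO3b.Wc.WC (S : Subgroup G) K₀) :
    normalizer (BT (S : Subgroup G) K₀ : Set G) ≤ normalizer (K₀ : Set G) := fun g hg =>
  mem_normalizer_iff_cj.2 (LevD.norm_of_wc h (lb h).Bp (K_le h) hg)

section line

variable {ι : Type} {P : Subgroup G} {L W Z C A : ι → Subgroup G} {q : ℕ}

variable [Finite ι]

/-- **(U1)** -/
theorem Lt.norm (h : Lt S P K₀ L W Z C A q) {g : G} (hg : g ∈ normalizer (BT (S : Subgroup G) K₀ : Set G)) :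
    cj g (zl (S : Subgroup G) P) = zl (S : Subgroup G) P ∧
      ∀ i, ∃ j, cj g (Z i) = Z j ∧ cj g (W i) ≤ W j ⊔ ZT (S : Subgroup G) K₀ :=
  h.fr.norm_of hg (NO3S.Level.normalizer_le_zc _ (norm_K h.wcK hg))

theorem Lt.norm_le (h : Lt S P K₀ L W Z C A q) :
    normalizer (BT (S : Subgroup G) K₀ : Set G) ≤ normalizer (zl (S : Subgroup G) P : Set G) := fun g hg => by
  rw [mem_normalizer_iff_cj]
  exact (h.norm hg).1

/-- `N_G(B)` permutes the triples `(W i, Z i, Z_J ∩ C i)`. -/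
theorem perm (h : Lt S P K₀ L W Z C A 2) {g : G} (hg : g ∈ normalizer (BT (S : Subgroup G) K₀ : Set G)) (i : ι) :
    ∃ j, cj g (Z i) = Z j ∧ cj g (W i) = W j ∧
      ∀ z ∈ ZT (S : Subgroup G) K₀, (g * z * g⁻¹ ∈ C j ↔ z ∈ C i) := by
  have hN := (nb h.fr i).conj g
  rw [cj_eq_of_mem_normalizer hg] at hN
  obtain ⟨j, hZ, hW⟩ := (h.norm hg).2 i
  rw [hZ] at hN
  rw [← h.fr.zcB] at hW
  have hB2 : IsPGroup 2 (BT (S : Subgroup G) K₀) := (lb h.wcK).Bp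
  obtain ⟨h1, h2, -⟩ := UniPlus.uni_two (wc h.wcK) hB2 (nb h.fr j) hN hW
  obtain ⟨-, h3, -⟩ := UniPlus.uni_two (wc h.wcK) hB2 hN (nb h.fr j) (h1.ge.trans le_sup_left)
  refine ⟨j, hZ, h1, fun z hz => ?_⟩
  have hz' : g * z * g⁻¹ ∈ ZT (S : Subgroup G) K₀ := by
    have h4 := cj_eq_of_mem_normalizer ((lb h.wcK).norm_B_le hg)
    rw [← h4]
    exact ⟨z, hz, rfl⟩
  have hzc : g * z * g⁻¹ ∈ zc (BT (S : Subgroup G) K₀) := by rw [h.fr.zcB]; exact hz'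
  rw [mem_C_iff h.fr hz', mem_C_iff h.fr hz]
  constructor
  · intro h4 l hl
    have h5 := h2 _ hzc h4 (g * l * g⁻¹) ⟨l, hl, rfl⟩
    have h6 := congrArg (fun t => g⁻¹ * t * g) h5
    simpa [mul_assoc] using h6
  · intro h4
    refine h3 _ hzc fun l hl => ?_
    have h5 := h4 _ (mem_cj.1 hl)
    have h6 := congrArg (fun t => g * t * g⁻¹) h5
    simpa [mul_assoc] using h6

omit [Finite ι] in
theorem Z_ne (h : Lt S P K₀ L W Z C A 2) (i : ι) : ∃ z ∈ Z i, z ≠ 1 := by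
  have h1 : 1 < Nat.card (Z i) := by rw [h.fr.cardZ i]; norm_num
  have : Nontrivial (Z i) := Finite.one_lt_card_iff_nontrivial.1 h1
  obtain ⟨z, hz⟩ := exists_ne (1 : Z i)
  exact ⟨z, z.2, fun h => hz (Subtype.ext h)⟩

omit [Finite ι] in
theorem Z_W (h : Lt S P K₀ L W Z C A 2) (i : ι) : Z i ≤ W i := (h.fr.blk i).ZV

omit [Finite ι] in
theorem not_mem_C (h : Lt S P K₀ L W Z C A 2) {i : ι} {z : G} (hz : z ∈ Z i) (h1 : z ≠ 1) : z ∉ C i := by
  intro hc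
  have h2 : z ∈ W i ⊓ C i := mem_inf.2 ⟨Z_W h i hz, hc⟩
  rw [h.fr.dir i, mem_bot] at h2
  exact h1 h2

omit [Finite ι] in
theorem Z_C (h : Lt S P K₀ L W Z C A 2) {i j : ι} (hij : i ≠ j) : Z j ≤ C i := (Z_W h j).trans (h.fr.WjC i j hij)

omit [Finite ι] in
/-- `Z` is injective. -/
theorem Z_inj (h : Lt S P K₀ L W Z C A 2) {i j : ι} (e : Z i = Z j) : i = j := by
  by_contra hne
  obtain ⟨z, hz, hz1⟩ := Z_ne h i
  exact not_mem_C h hz hz1 (Z_C h hne (e ▸ hz))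

omit [Finite ι] in
theorem Z_eq (h : Lt S P K₀ L W Z C A 2) {i : ι} {x y : G} (hx : x ∈ Z i) (hy : y ∈ Z i) (hx1 : x ≠ 1)
    (hy1 : y ≠ 1) : x = y := UniPlus.eq_of_card_two (h.fr.cardZ i) hx hy hx1 hy1

omit [Finite ι] in
/-- If `g` normalises `Z i` it centralises it. -/
theorem cent_of_cj (h : Lt S P K₀ L W Z C A 2) {i : ι} {g : G} (e : cj g (Z i) = Z i) {z : G} (hz : z ∈ Z i) :
    g * z = z * g := by
  by_cases h1 : z = 1
  · rw [h1]; simp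
  have h2 : g * z * g⁻¹ ∈ Z i := by rw [← e]; exact ⟨z, hz, rfl⟩
  have h3 := Z_eq h h2 hz (fun h3 => h1 (by simpa using h3)) h1
  exact mul_inv_eq_iff_eq_mul.1 h3

omit [Finite ι] in
/-- If `g` moves `Z i` to `Z j` it moves the generator to the generator. -/
theorem conj_gen (h : Lt S P K₀ L W Z C A 2) {i j : ι} {g : G} (e : cj g (Z i) = Z j) {z w : G} (hz : z ∈ Z i)
    (h1 : z ≠ 1) (hw : w ∈ Z j) (h2 : w ≠ 1) : g * z * g⁻¹ = w :=
  Z_eq h (by rw [← e]; exact ⟨z, hz, rfl⟩) hw (fun h3 => h1 (by simpa using h3)) h2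

omit [Finite ι] in
/-- An element of `Z_J` is determined by its support. -/
theorem eq_of_supp (h : Lt S P K₀ L W Z C A 2) {x y : G} (hx : x ∈ ZT (S : Subgroup G) K₀)
    (hy : y ∈ ZT (S : Subgroup G) K₀) (hs : ∀ i, x ∈ C i ↔ y ∈ C i) : x = y := by
  have hxV := h.fr.ZJV hx
  have hyV := h.fr.ZJV hy
  have h1 : x * y⁻¹ = 1 := by
    refine h.fr.C0 _ (mul_mem hxV (inv_mem hyV)) fun i => ?_
    by_cases hxi : x ∈ C i
    · exact mul_mem hxi (inv_mem ((hs i).1 hxi))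
    have hyi : y ∉ C i := fun hc => hxi ((hs i).2 hc)
    obtain ⟨w, hw, c, hc, -, e⟩ := h.fr.split_ZJ i hx
    obtain ⟨w', hw', c', hc', -, e'⟩ := h.fr.split_ZJ i hy
    have hw1 : w ≠ 1 := by
      rintro rfl
      exact hxi (by rw [e, one_mul]; exact hc)
    have hw1' : w' ≠ 1 := by
      rintro rfl
      exact hyi (by rw [e', one_mul]; exact hc')
    have h2 := Z_eq h hw hw' hw1 hw1'
    have h3 : w * c = c * w := h.fr.Vc (h.fr.ZV i hw) (h.fr.CV i hc)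
    have h4 : w * c' = c' * w := h.fr.Vc (h.fr.ZV i hw) (h.fr.CV i hc')
    have e1 : x * y⁻¹ = c * c'⁻¹ := by
      rw [e, e', ← h2, h3, h4]; group
    rw [e1]
    exact mul_mem hc (inv_mem hc')
  exact mul_inv_eq_one.1 h1

/-- Every subset of the index set is a support. -/
theorem exists_supp (h : Lt S P K₀ L W Z C A 2) (s : Set ι) :
    ∃ x ∈ ZT (S : Subgroup G) K₀, ∀ i, (x ∈ C i ↔ i ∉ s) := by
  classical
  have : Fintype ι := Fintype.ofFinite ι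
  suffices H : ∀ t : Finset ι, ∃ x ∈ ZT (S : Subgroup G) K₀, ∀ i, (x ∈ C i ↔ i ∉ t) by
    obtain ⟨x, hx, hs⟩ := H s.toFinset
    exact ⟨x, hx, fun i => by rw [hs i, Set.mem_toFinset]⟩
  intro t
  induction t using Finset.induction_on with
  | empty => exact ⟨1, one_mem _, fun i => by simp [one_mem]⟩
  | insert j t hj ih =>
    obtain ⟨x, hx, hs⟩ := ih
    obtain ⟨z, hz, hz1⟩ := Z_ne h j
    refine ⟨x * z, mul_mem hx (h.fr.Z_le j hz), fun i => ?_⟩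
    by_cases hij : i = j
    · subst hij
      have h1 : x ∈ C i := (hs i).2 hj
      constructor
      · intro h2
        exact absurd ((Subgroup.mul_mem_cancel_left _ h1).1 h2) (not_mem_C h hz hz1)
      · intro h2
        exact absurd (Finset.mem_insert_self i t) h2
    · have h1 : z ∈ C i := Z_C h hij hz
      rw [Subgroup.mul_mem_cancel_right _ h1, hs i, Finset.mem_insert, not_or]
      exact ⟨fun h2 => ⟨hij, h2⟩, fun h2 => h2.2⟩

/-- The support of a conjugate under `N_G(B)`. -/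
theorem supp_cj (h : Lt S P K₀ L W Z C A 2) {g : G} (hg : g ∈ normalizer (BT (S : Subgroup G) K₀ : Set G)) {i j : ι}
    (e : cj g (Z i) = Z j) {z : G} (hz : z ∈ ZT (S : Subgroup G) K₀) : g * z * g⁻¹ ∈ C j ↔ z ∈ C i := by
  obtain ⟨k, h1, -, h2⟩ := perm h hg i
  have h3 : j = k := Z_inj h (e.symm.trans h1)
  rw [h3]
  exact h2 z hz

theorem W_cj (h : Lt S P K₀ L W Z C A 2) {g : G} (hg : g ∈ normalizer (BT (S : Subgroup G) K₀ : Set G)) {i j : ι}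
    (e : cj g (Z i) = Z j) : cj g (W i) = W j := by
  obtain ⟨k, h1, h2, -⟩ := perm h hg i
  have h3 : j = k := Z_inj h (e.symm.trans h1)
  rw [h3]
  exact h2

omit [Finite ι] in
theorem ZT_cj_mem (h : Lt S P K₀ L W Z C A 2) {g : G} (hg : g ∈ normalizer (BT (S : Subgroup G) K₀ : Set G)) {z : G}
    (hz : z ∈ ZT (S : Subgroup G) K₀) : g * z * g⁻¹ ∈ ZT (S : Subgroup G) K₀ := by
  have h3 := cj_eq_of_mem_normalizer ((lb h.wcK).norm_B_le hg)
  rw [← h3]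
  exact ⟨z, hz, rfl⟩

/-- `g ∈ N_G(B)` centralises `z ∈ Z_J` if it stabilises its support. -/
theorem comm_of_supp (h : Lt S P K₀ L W Z C A 2) {g : G} (hg : g ∈ normalizer (BT (S : Subgroup G) K₀ : Set G)) {z : G}
    (hz : z ∈ ZT (S : Subgroup G) K₀) (hs : ∀ i j, cj g (Z i) = Z j → (z ∈ C i ↔ z ∈ C j)) : g * z = z * g := by
  have h1 : g * z * g⁻¹ = z := by
    refine eq_of_supp h (ZT_cj_mem h hg hz) hz fun j => ?_
    obtain ⟨i, hi, -, -⟩ := perm h (inv_mem hg) j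
    have e : cj g (Z i) = Z j := by
      have := cj_inv_eq hi
      rwa [inv_inv] at this
    rw [supp_cj h hg e hz]
    exact hs i j e
  exact mul_inv_eq_iff_eq_mul.1 h1

end line

end Cfsg.Agent.Omega.OM.SwapT

end

section


/-!
# THEOREM SW over a general top level `K₀`, STEP 0: pairs `(T, F)` inside every subgroup of characteristic 2 over `B`
not contained in `M`

* `BMT S K₀ M H` : minimal parabolics `Y ≤ H` over a 2-group `T ≥ B` with `nxt S K₀ ≰ O₂(Y)`, `[Ω₁Z(T), Y] ≠ 1` lie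
  in `M`;
* `QFix S K₀ M H` : a quiet minimal parabolic `Y ≤ H` over `T ≥ B` with `K₀ ≰ O₂(Y)`, `Y ≰ M`:
  `Z_J ∩ Ω₁Z(O₂(Y))` is centralised by `O²(Y)` (for `K₀ ≤ O₂(Y)` this holds: `fixPt_nxt`);
* `InQ S K₀ M H F` : `F` lies in a quiet minimal parabolic `Y ≤ H`, `Y ≰ M`, `O₂(Y) ≤ O₂(F)`;
* `exists_pair`.
-/

set_option autoImplicit false

namespace Cfsg.Agent.Omega.OM.SwapT

open Subgroup Cfsg Cfsg.Agent.ZN.ChoiceBase Cfsg.Agent.ZN.ChoiceSit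
open Cfsg.Agent.ZN (jj zj bau zc zl o2)
open Cfsg.Agent.MinSimple.MinParabolic (IsMinPar)
open Cfsg.Agent.MinSimple.VModule (oddGen oddGen_le)
open Cfsg.Agent.Omega.NO3S (HypN)
open Cfsg.Agent.Omega.NO3S.Level (lev nxt Lev wc_nxt)
open Cfsg.Agent.Omega.OM.LevD (LB K0 norm_le_M cent_le_K0)
open Cfsg.Agent.Omega.OM.Dich (oddGen_sup_syl)

universe u

variable {G : Type u} [Group G] [Finite G] {S : Sylow 2 G} {K₀ : Subgroup G}

/-! ### (6) (O1+), with the weak form of `FixPt` -/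

/-- `LevB.genM` with the weak form of `FixPt` (for `Z_J` instead of `Ω₁Z(O₂(Y))`). -/
theorem genM' {K B ZJ H T : Subgroup G} {𝓑 : Subgroup G → Subgroup G → Prop} (hB : LB S K B ZJ)
    {M : Subgroup G} (hK : K0 ZJ 𝓑 ≤ M)
    (hN : normalizer (B : Set G) ≤ M) (hT : Syl T H) (hBT : B ≤ T)
    (hc : H ⊓ centralizer (o2 H : Set G) ≤ o2 H)
    (hfix : ∀ Y : Subgroup G, IsMinPar T Y → Y ≤ H → ¬ K ≤ o2 Y → Y ≤ centralizer (zc T : Set G) → ¬ Y ≤ M →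
      ZJ ⊓ zc (o2 Y) ≤ centralizer (oddGen Y : Set G))
    (hblk : ∀ Y : Subgroup G, IsMinPar T Y → Y ≤ H → ¬ K ≤ o2 Y → ¬ Y ≤ centralizer (zc T : Set G) → Y ≤ M) :
    H ≤ (H ⊓ M) ⊔ ⨆ Y : {Y : Subgroup G // IsMinPar T Y ∧ Y ≤ H ∧ ¬ K ≤ o2 Y ∧
      Y ≤ centralizer (zc T : Set G) ∧ ¬ o2 Y ≤ B}, (Y : Subgroup G) := by
  have hZM := norm_le_M hB hK hN
  have hTN : normalizer (T : Set G) ≤ M := (hB.nrm T hT.2.1 (hB.KB.trans hBT)).trans hZM
  have hTM : T ≤ M := le_normalizer.trans hTN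
  have hD : centralizer (ZJ : Set G) ≤ M := cent_le_K0.trans hK
  refine MinSimple.MinParabolic.le_of_forall hT.1 ?_ fun Y hY hYH => ?_
  · exact le_sup_of_le_left (inf_le_inf_left _ hTN)
  have hcase : Y ≤ M → Y ≤ (H ⊓ M) ⊔ ⨆ Y : {Y : Subgroup G // IsMinPar T Y ∧ Y ≤ H ∧ ¬ K ≤ o2 Y ∧
      Y ≤ centralizer (zc T : Set G) ∧ ¬ o2 Y ≤ B}, (Y : Subgroup G) :=
    fun h => le_sup_of_le_left (le_inf hYH h)
  have hTY : Syl T Y := ⟨hY.le, hT.2.1, fun Q hQ h2 hTQ => hT.2.2 Q (hQ.trans hYH) h2 hTQ⟩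
  by_cases h1 : K ≤ o2 Y
  · exact hcase ((le_normalizer_o2 Y).trans ((hB.nrm _ (isPGroup_o2 Y) h1).trans hZM))
  by_cases h2 : Y ≤ centralizer (zc T : Set G)
  · by_cases h3 : o2 Y ≤ B
    · apply hcase
      by_contra hYM
      apply hYM
      -- `Z_J ≤ Ω₁(Z(O₂(Y)))`
      have h4 : o2 H ≤ o2 Y := by
        refine le_o2 (isPGroup_o2 H) ((o2_le_syl hT).trans hY.le) (hYH.trans (le_normalizer_o2 H))
      have hcY : Y ⊓ centralizer (o2 Y : Set G) ≤ o2 Y := by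
        rintro x ⟨hx, hxc⟩
        exact h4 (hc ⟨hYH hx, centralizer_le (by exact_mod_cast h4) hxc⟩)
      have h5 : ZJ ≤ zc (o2 Y) := by
        intro z hz
        have hzT : z ∈ T := hBT (hB.ZB hz)
        have hcz : ∀ y ∈ o2 Y, y * z = z * y := fun y hy =>
          (mem_centralizer_iff.1 (hB.Bc (h3 hy)) z hz).symm
        exact mem_zc.2 ⟨hcY ⟨hY.le hzT, mem_centralizer_iff.2 hcz⟩, hB.sq z hz, hcz⟩
      have h6 := (le_inf le_rfl h5).trans (hfix Y hY hYH h1 h2 hYM)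
      have h7 : oddGen Y ≤ M := (le_centralizer_iff.1 h6).trans hD
      have h8 : oddGen Y ⊔ T = Y := oddGen_sup_syl hTY
      rw [← h8]
      exact sup_le h7 hTM
    · exact le_sup_of_le_right (le_iSup (fun Y : {Y : Subgroup G // IsMinPar T Y ∧ Y ≤ H ∧ ¬ K ≤ o2 Y ∧
        Y ≤ centralizer (zc T : Set G) ∧ ¬ o2 Y ≤ B} => (Y : Subgroup G))
        ⟨Y, hY, hYH, h1, h2, h3⟩)
  · exact hcase (hblk Y hY hYH h1 h2)

/-! ### `nxt` over a 2-group -/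

theorem nxt_T (h : NO3b.Wc.WC (S : Subgroup G) K₀) {T : Subgroup G} (hT : IsPGroup 2 T)
    (hle : nxt (S : Subgroup G) K₀ ≤ T) : nxt T K₀ = nxt (S : Subgroup G) K₀ :=
  LevD.nxt_eq h (wc_nxt h) hT hle

/-- `Lev T K₀` for every 2-group `T ≥ K₀` -/
theorem lev_T (h : NO3b.Wc.WC (S : Subgroup G) K₀) (hL : Lev (S : Subgroup G) K₀) {T : Subgroup G}
    (hT : IsPGroup 2 T) (hle : K₀ ≤ T) : Lev T K₀ where
  le := hle
  jjle := by rw [MinSimple.EmptyTI.jj_eq S hT (hL.jjle.trans hle)]; exact hL.jjle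
  norm := fun _ h1 h2 _ hg => mem_normalizer_iff_cj.2 (LevD.norm_of_wc h (hT.to_le h2) h1 hg)

/-- **(F1)** a conjugate of `B` inside `M` is a conjugate by an element of `M`. -/
theorem mem_of_cj_B_le (hw : NO3b.Wc.WC (S : Subgroup G) K₀) {M : Subgroup G} (hSM : (S : Subgroup G) ≤ M)
    (hN : normalizer (BT (S : Subgroup G) K₀ : Set G) ≤ M) {g : G} (h : cj g (BT (S : Subgroup G) K₀) ≤ M) :
    g ∈ M := by
  have hS : Syl (S : Subgroup G) M := ⟨hSM, S.isPGroup', fun Q _ hQ hle => S.is_maximal' hQ hle⟩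
  have h2 : IsPGroup 2 (cj g (BT (S : Subgroup G) K₀)) := isPGroup_cj g (lb hw).Bp
  obtain ⟨T, hT, hle⟩ := exists_syl h2 h
  obtain ⟨m, hm, rfl⟩ := syl_conj hS hT
  have h3 : cj (m⁻¹ * g) (BT (S : Subgroup G) K₀) ≤ (S : Subgroup G) := by
    have := cj_mono m⁻¹ hle
    rwa [cj_inv_cj, cj_cj] at this
  have h4 := wc hw _ S.isPGroup' (lb hw).BS _ h3
  have h5 : m⁻¹ * g ∈ M := hN (mem_normalizer_iff_cj.2 h4)
  have h6 := mul_mem hm h5
  rwa [mul_inv_cancel_left] at h6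

/-- The pairs `(T, F)` of STEP 0. -/
structure PairT (S : Sylow 2 G) (P K₀ M T F : Subgroup G) : Prop where
  syl : Syl T F
  BT : BT (S : Subgroup G) K₀ ≤ T
  nM : ¬ F ≤ M
  min : ∀ K : Subgroup G, T ≤ K → K < F → K ≤ M
  VO : zl (S : Subgroup G) P ≤ o2 F
  fix : ZT (S : Subgroup G) K₀ ⊓ centralizer (o2 F : Set G) ≤ centralizer (F : Set G)

/-- `F` lies in a quiet minimal parabolic `Y ≤ H`, `Y ≰ M` over a 2-group `T₀ ≥ B`, `O₂(Y) ≤ O₂(F)`. -/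
def InQ (S : Sylow 2 G) (K₀ M H F : Subgroup G) : Prop :=
  ∃ T₀ Y : Subgroup G, Syl T₀ Y ∧ BT (S : Subgroup G) K₀ ≤ T₀ ∧ IsMinPar T₀ Y ∧ Y ≤ H ∧
    Y ⊓ centralizer (o2 Y : Set G) ≤ o2 Y ∧ Y ≤ centralizer (zc T₀ : Set G) ∧ ¬ Y ≤ M ∧ F ≤ Y ∧ o2 Y ≤ o2 F

theorem InQ.mono {M H H' F : Subgroup G} (hH : H' ≤ H) (h : InQ S K₀ M H' F) : InQ S K₀ M H F := by
  obtain ⟨T₀, Y, h1, h2, h3, h4, h5⟩ := h
  exact ⟨T₀, Y, h1, h2, h3, h4.trans hH, h5⟩

/-- Minimal parabolics `Y ≤ H` over `T ≥ B` which move `Ω₁Z(T)` lie in `M`: the blocks over `B` and LL. -/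
def BMT (S : Sylow 2 G) (K₀ M H : Subgroup G) : Prop :=
  ∀ T Y : Subgroup G, Syl T Y → BT (S : Subgroup G) K₀ ≤ T → IsMinPar T Y → Y ≤ H →
    Y ⊓ centralizer (o2 Y : Set G) ≤ o2 Y → ¬ nxt (S : Subgroup G) K₀ ≤ o2 Y →
    ¬ Y ≤ centralizer (zc T : Set G) → Y ≤ M

/-- Fixed points do not lift for the quiet minimal parabolics `Y ≤ H` over `T ≥ B` with `K₀ ≰ O₂(Y)`, `Y ≰ M`. -/
def QFix (S : Sylow 2 G) (K₀ M H : Subgroup G) : Prop :=
  ∀ T Y : Subgroup G, Syl T Y → BT (S : Subgroup G) K₀ ≤ T → IsMinPar T Y → Y ≤ H →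
    Y ⊓ centralizer (o2 Y : Set G) ≤ o2 Y → ¬ K₀ ≤ o2 Y → Y ≤ centralizer (zc T : Set G) → ¬ Y ≤ M →
    ZT (S : Subgroup G) K₀ ⊓ zc (o2 Y) ≤ centralizer (oddGen Y : Set G)

/-- Fixed points do not lift. -/
theorem fix_T (hw : NO3b.Wc.WC (S : Subgroup G) K₀) (hL : Lev (S : Subgroup G) K₀) {M H : Subgroup G}
    (hq : QFix S K₀ M H) {T Y : Subgroup G} (hT : Syl T Y) (hB : BT (S : Subgroup G) K₀ ≤ T) (hY : IsMinPar T Y)
    (hYH : Y ≤ H) (hc : Y ⊓ centralizer (o2 Y : Set G) ≤ o2 Y) (hn : ¬ nxt (S : Subgroup G) K₀ ≤ o2 Y)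
    (hz : Y ≤ centralizer (zc T : Set G)) (hM : ¬ Y ≤ M) :
    ZT (S : Subgroup G) K₀ ⊓ zc (o2 Y) ≤ centralizer (oddGen Y : Set G) := by
  by_cases h1 : K₀ ≤ o2 Y
  · have hle : nxt (S : Subgroup G) K₀ ≤ T := (lb hw).KB.trans hB
    have h2 : ¬ nxt T K₀ ≤ o2 Y := by rwa [nxt_T hw hT.2.1 hle]
    exact inf_le_right.trans
      (LevD.fixPt_nxt hT hY (lev_T hw hL hT.2.1 ((K_le hw).trans hB)) h1 h2 hz)
  · exact hq T Y hT hB hY hYH hc h1 hz hM

section line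

variable {ι : Type} [Finite ι] {P : Subgroup G} {L W Z C A : ι → Subgroup G} {q : ℕ}

/-- a 2-group over `B` normalises `V`. -/
theorem two_norm (h : Lt S P K₀ L W Z C A q) {T : Subgroup G} (hT : IsPGroup 2 T)
    (hB : BT (S : Subgroup G) K₀ ≤ T) : T ≤ normalizer (zl (S : Subgroup G) P : Set G) :=
  ((lb h.wcK).two_le hT hB).trans h.norm_le

omit [Finite ι] in
theorem V_le_B (h : Lt S P K₀ L W Z C A q) : zl (S : Subgroup G) P ≤ BT (S : Subgroup G) K₀ :=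
  h.fr.VQ.trans h.fr.QB

/-- `V ≤ O₂(Y)` if `Y` centralises `Ω₁(Z(T))`, `B ≤ T ≤ Y`. -/
theorem V_le_o2 (h : Lt S P K₀ L W Z C A q) {T Y : Subgroup G} (hT : IsPGroup 2 T)
    (hB : BT (S : Subgroup G) K₀ ≤ T) (hTY : T ≤ Y) (hY : Y ≤ centralizer (zc T : Set G)) :
    zl (S : Subgroup G) P ≤ o2 Y := by
  obtain ⟨S', hS'⟩ := hT.exists_le_sylow
  obtain ⟨g, hg⟩ := MulAction.exists_smul_eq G S S'
  have hg2 : (S' : Subgroup G) = cj g (S : Subgroup G) := by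
    rw [← hg, Sylow.coe_subgroup_smul]
    rfl
  have hgN : g ∈ normalizer (BT (S : Subgroup G) K₀ : Set G) := by
    have h1 : cj g⁻¹ (BT (S : Subgroup G) K₀) ≤ (S : Subgroup G) := by
      have := cj_mono g⁻¹ ((hB.trans hS').trans hg2.le)
      rwa [cj_inv_cj] at this
    have h2 := wc h.wcK _ S.isPGroup' (lb h.wcK).BS _ h1
    have h3 := inv_mem (mem_normalizer_iff_cj.2 h2)
    rwa [inv_inv] at h3
  have h3 : zc (S' : Subgroup G) ≤ zc T := by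
    intro z hz
    have h4 : z ∈ T := by
      rw [hg2, NO3S.Level.zc_cj] at hz
      have h5 : zc (S : Subgroup G) ≤ ZT (S : Subgroup G) K₀ := (h.lev.next).zc_le
      have h6 := cj_mono g h5 hz
      rw [cj_eq_of_mem_normalizer ((lb h.wcK).norm_B_le hgN)] at h6
      exact hB ((lb h.wcK).ZB h6)
    obtain ⟨h5, h6, h7⟩ := mem_zc.1 hz
    exact mem_zc.2 ⟨h4, h6, fun y hy => h7 y (hS' hy)⟩
  have h4 : Y ≤ centralizer (zc (S' : Subgroup G) : Set G) := hY.trans (centralizer_le h3)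
  have h5 : zl (S : Subgroup G) P ≤ o2 (centralizer (zc (S' : Subgroup G) : Set G)) := by
    have h6 := cj_mono g (h.hyp.low P h.hyp.star)
    rw [(h.norm hgN).1, ← pCore_cj, cj_centralizer, ← LemmaK.Main.zc_cj, ← hg2] at h6
    exact h6
  have h6 : zl (S : Subgroup G) P ≤ o2 (centralizer (zc (S' : Subgroup G) : Set G)) ⊓ Y :=
    le_inf h5 (((V_le_B h).trans hB).trans hTY)
  refine h6.trans (le_o2 ((isPGroup_o2 _).to_le inf_le_left) inf_le_right ?_)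
  intro y hy
  rw [mem_normalizer_iff_cj, cj_inf, cj_eq_of_mem_normalizer (le_normalizer_o2 _ (h4 hy)),
    cj_eq_of_mem_normalizer (le_normalizer hy)]

/-- **Existence of pairs.** The pair lies in a quiet minimal parabolic `Y ≰ M`. -/
theorem exists_pair (h : Lt S P K₀ L W Z C A q) {M H : Subgroup G} (hBM : BMT S K₀ M H) (hq : QFix S K₀ M H)
    (hD : centralizer (ZT (S : Subgroup G) K₀ : Set G) ≤ M) (hN : normalizer (BT (S : Subgroup G) K₀ : Set G) ≤ M)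
    (hB : BT (S : Subgroup G) K₀ ≤ H) (hc : H ⊓ centralizer (o2 H : Set G) ≤ o2 H) (hM : ¬ H ≤ M) :
    ∃ T F : Subgroup G, PairT S P K₀ M T F ∧ F ≤ H ∧ InQ S K₀ M H F := by
  have : Fact (Nat.Prime 2) := ⟨Nat.prime_two⟩
  have hb := lb h.wcK
  obtain ⟨T₀, hT₀, hBT₀⟩ := exists_syl hb.Bp hB
  have hK : K0 (ZT (S : Subgroup G) K₀) (fun _ _ => False) ≤ M := sup_le hD (iSup_le fun i => i.2.elim)
  have hsylY : ∀ Y : Subgroup G, IsMinPar T₀ Y → Y ≤ H → Syl T₀ Y := fun Y hY hYH =>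
    ⟨hY.le, hT₀.2.1, fun Q hQ h2 hTQ => hT₀.2.2 Q (hQ.trans hYH) h2 hTQ⟩
  have hcY' : ∀ Y : Subgroup G, IsMinPar T₀ Y → Y ≤ H → Y ⊓ centralizer (o2 Y : Set G) ≤ o2 Y := by
    intro Y hY hYH
    have h4 : o2 H ≤ o2 Y :=
      le_o2 (isPGroup_o2 H) ((o2_le_syl hT₀).trans hY.le) (hYH.trans (le_normalizer_o2 H))
    rintro x ⟨hx, hxc⟩
    exact h4 (hc ⟨hYH hx, centralizer_le (by exact_mod_cast h4) hxc⟩)
  have hKT : nxt (S : Subgroup G) K₀ ≤ T₀ := hb.KB.trans hBT₀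
  have hfix : ∀ Y : Subgroup G, IsMinPar T₀ Y → Y ≤ H → ¬ nxt (S : Subgroup G) K₀ ≤ o2 Y →
      Y ≤ centralizer (zc T₀ : Set G) → ¬ Y ≤ M →
        ZT (S : Subgroup G) K₀ ⊓ zc (o2 Y) ≤ centralizer (oddGen Y : Set G) :=
    fun Y hY hYH h1 h2 h3 => fix_T h.wcK h.lev hq (hsylY Y hY hYH) hBT₀ hY hYH (hcY' Y hY hYH) h1 h2 h3
  have hg := genM' hb hK hN hT₀ hBT₀ hc hfix
    fun Y hY hYH => hBM T₀ Y (hsylY Y hY hYH) hBT₀ hY hYH (hcY' Y hY hYH)
  -- the minimal parabolic `Y`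
  obtain ⟨Y, ⟨hYm, hYH, hYK, hYc, -⟩, hYM⟩ : ∃ Y : Subgroup G, (IsMinPar T₀ Y ∧ Y ≤ H ∧
      ¬ nxt (S : Subgroup G) K₀ ≤ o2 Y ∧
      Y ≤ centralizer (zc T₀ : Set G) ∧ ¬ o2 Y ≤ BT (S : Subgroup G) K₀) ∧ ¬ Y ≤ M := by
    by_contra hcon
    push Not at hcon
    exact hM (hg.trans (sup_le inf_le_right (iSup_le fun Y => hcon Y.1 Y.2)))
  have hTM : T₀ ≤ M := (hb.two_le hT₀.2.1 hBT₀).trans hN
  have hTY : Syl T₀ Y := hsylY Y hYm hYH
  have hcY := hcY' Y hYm hYH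
  have hVY : zl (S : Subgroup G) P ≤ o2 Y := V_le_o2 h hT₀.2.1 hBT₀ hYm.le hYc
  -- `Y₁ = O²(Y) O₂(Y) B`
  set Y₁ : Subgroup G := oddGen Y ⊔ (o2 Y ⊔ BT (S : Subgroup G) K₀) with hY₁
  have hY₁Y : Y₁ ≤ Y := sup_le (oddGen_le Y) (sup_le (o2_le Y) (hBT₀.trans hYm.le))
  have hOB : IsPGroup 2 (o2 Y ⊔ BT (S : Subgroup G) K₀ : Subgroup G) :=
    hT₀.2.1.to_le (sup_le (o2_le_syl hTY) hBT₀)
  obtain ⟨T, hT, hOT⟩ := exists_syl hOB (le_sup_right : o2 Y ⊔ BT (S : Subgroup G) K₀ ≤ Y₁)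
  have hY₁M : ¬ Y₁ ≤ M := by
    intro hle
    apply hYM
    rw [← Dich.oddGen_sup_syl hTY]
    exact sup_le (le_sup_left.trans hle) hTM
  obtain ⟨F, hF⟩ := (Set.toFinite {K : Subgroup G | T ≤ K ∧ K ≤ Y₁ ∧ ¬ K ≤ M}).exists_minimal
    ⟨Y₁, hT.1, le_rfl, hY₁M⟩
  obtain ⟨hTF, hFY₁, hFM⟩ := hF.prop
  have hFY : F ≤ Y := hFY₁.trans hY₁Y
  have hsyl : Syl T F := ⟨hTF, hT.2.1, fun Q hQ h2 hle => hT.2.2 Q (hQ.trans hFY₁) h2 hle⟩
  have hBT : BT (S : Subgroup G) K₀ ≤ T := le_sup_right.trans hOT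
  have hOF : o2 Y ≤ o2 F :=
    le_o2 (isPGroup_o2 Y) ((le_sup_left.trans hOT).trans hTF) (hFY.trans (le_normalizer_o2 Y))
  refine ⟨T, F, ⟨hsyl, hBT, hFM, fun K hTK hKF => ?_, hVY.trans hOF, ?_⟩, hFY.trans hYH, T₀, Y, hTY, hBT₀, hYm, hYH, hcY,
    hYc, hYM, hFY, hOF⟩
  · by_contra hKM
    exact hKF.not_ge (hF.le_of_le ⟨hTK, hKF.le.trans hFY₁, hKM⟩ hKF.le)
  · rintro z ⟨hz, hzc⟩
    have hzB : z ∈ BT (S : Subgroup G) K₀ := hb.ZB hz
    have hzO : ∀ y ∈ o2 Y, y * z = z * y := fun y hy => mem_centralizer_iff.1 hzc y (hOF hy)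
    have hz1 : z ∈ zc (o2 Y) := by
      refine mem_zc.2 ⟨hcY ⟨hYm.le (hBT₀ hzB), mem_centralizer_iff.2 hzO⟩, hb.sq z hz, hzO⟩
    have hz2 : z ∈ centralizer (oddGen Y : Set G) := hfix Y hYm hYH hYK hYc hYM ⟨hz, hz1⟩
    have hle : Y₁ ≤ centralizer ({z} : Set G) := by
      refine sup_le (fun y hy => ?_) (sup_le (fun y hy => ?_) fun y hy => ?_) <;>
        rw [mem_centralizer_singleton_iff]
      · exact mem_centralizer_iff.1 hz2 y hy
      · exact hzO y hy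
      · exact (mem_centralizer_iff.1 (hb.Bc hy) z hz).symm
    rw [mem_centralizer_iff]
    intro y hy
    exact mem_centralizer_singleton_iff.1 (hle (hFY₁ hy))

end line

theorem PairT.nK {P M T F : Subgroup G} (hw : NO3b.Wc.WC (S : Subgroup G) K₀) (hp : PairT S P K₀ M T F)
    (hZM : normalizer (ZT (S : Subgroup G) K₀ : Set G) ≤ M) : ¬ nxt (S : Subgroup G) K₀ ≤ o2 F := fun hle =>
  hp.nM ((le_normalizer_o2 F).trans (((lb hw).nrm _ (isPGroup_o2 F) hle).trans hZM))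

theorem PairT.minPar {P M T F : Subgroup G} (hw : NO3b.Wc.WC (S : Subgroup G) K₀) (hp : PairT S P K₀ M T F)
    (hZM : normalizer (ZT (S : Subgroup G) K₀ : Set G) ≤ M) : IsMinPar T F := by
  refine ⟨hp.syl.1, fun hle => ?_, F ⊓ M, lt_of_le_of_ne inf_le_left fun e => hp.nM (inf_eq_left.1 e),
    fun K hTK hKF => le_inf hKF.le (hp.min K hTK hKF)⟩
  apply hp.nK hw hZM
  exact ((lb hw).KB.trans hp.BT).trans (le_o2 hp.syl.2.1 hp.syl.1 hle)

end Cfsg.Agent.Omega.OM.SwapT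

end

section


/-!
# THEOREM SW over a general top level `K₀`, STEP 0: the family of offenders of a pair

* `FamF S P K₀ T F` : a family `𝓐` as in helper394's `Fm`; some member in `T` is not in `O₂(F)`; the members in `T` lie in
  `B`, and they centralise `V_P` or are best offenders on `Ω₁Z(K₀)`;
* `exists_fam` : `FamF` for every pair with `K₀ ≤ O₂(F)`;
* `QFam S P K₀ M H` : `FamF` for the pairs in quiet minimal parabolics `Y ≤ H` with `K₀ ≰ O₂(F)` (socket).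
-/

set_option autoImplicit false

namespace Cfsg.Agent.Omega.OM.SwapT

open Subgroup Cfsg Cfsg.Agent.ZN.ChoiceBase Cfsg.Agent.ZN.ChoiceSit
open Cfsg.Agent.ZN (jj zj bau zc zl o2)
open Cfsg.Agent.MinSimple.MinParabolic (IsMinPar)
open Cfsg.Agent.Omega.NO3S (HypN)
open Cfsg.Agent.Omega.NO3S.Level (lev nxt Lev BO)
open Cfsg.Agent.Omega.OM.LevD (LB K0)
open Cfsg.Agent.Omega.OM.Swap.Fam (Fm BF fm_AA fm_best)
open Cfsg.Agent.Omega.OM.SwapL (zc_elab)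

universe u

variable {G : Type u} [Group G] [Finite G]

/-- The family of offenders of a pair. -/
def FamF (S : Sylow 2 G) (P K₀ T F : Subgroup G) : Prop :=
  ∃ 𝓐 : Set (Subgroup G),
    (∀ Λ : Subgroup G, IsElementaryAbelian 2 Λ → Λ ≤ F → F ≤ normalizer (Λ : Set G) →
      Λ ≤ NoFF.Basic.V (zl (S : Subgroup G) P) F → Fm F Λ 𝓐) ∧
    (∃ X ∈ 𝓐, X ≤ T ∧ ¬ X ≤ o2 F) ∧
    ∀ X ∈ 𝓐, X ≤ T → X ≤ BT (S : Subgroup G) K₀ ∧
      ((∀ a ∈ X, ∀ v ∈ zl (S : Subgroup G) P, a * v = v * a) ∨ Lev.Uni.Best (zc K₀) X)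

/-- **Socket**: the family for pairs in quiet minimal parabolics with `K₀ ≰ O₂(F)`. -/
def QFam (S : Sylow 2 G) (P K₀ M H : Subgroup G) : Prop :=
  ∀ T F : Subgroup G, PairT S P K₀ M T F → InQ S K₀ M H F → ¬ K₀ ≤ o2 F → FamF S P K₀ T F

section line

variable {ι : Type} {S : Sylow 2 G} {P K₀ : Subgroup G} {L W Z C A : ι → Subgroup G} {q : ℕ}

/-- The family of offenders, `K₀ ≤ O₂(F)`. -/
theorem exists_fam (h : Lt S P K₀ L W Z C A q) {M T F : Subgroup G} (hp : PairT S P K₀ M T F)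
    (hD : centralizer (ZT (S : Subgroup G) K₀ : Set G) ≤ M) (hTM : T ≤ M)
    (hZM : normalizer (ZT (S : Subgroup G) K₀ : Set G) ≤ M) (hlow : K₀ ≤ o2 F) : FamF S P K₀ T F := by
  have hT2 := hp.syl.2.1
  have hb := lb h.wcK
  have hKT : nxt (S : Subgroup G) K₀ ≤ T := hb.KB.trans hp.BT
  have hX := zc_elab K₀
  have hFN : F ≤ normalizer (zc K₀ : Set G) := by
    refine (le_normalizer_o2 F).trans fun g hg => NO3S.Level.normalizer_le_zc _ ?_
    exact mem_normalizer_iff_cj.2 (LevD.norm_of_wc h.wcK (isPGroup_o2 F) hlow hg)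
  have hnx : nxt T K₀ = nxt (S : Subgroup G) K₀ := nxt_T h.wcK hT2 hKT
  have hVX : zl (S : Subgroup G) P ≤ zc K₀ := h.fr.VX
  refine ⟨BF F (zc K₀), fun Λ hΛ hΛF hn hle => fm_best hX hFN ?_ hn, ?_, fun X hXA hXT => ?_⟩
  · refine hle.trans (NoFF.Basic.V_le fun f hf => ?_)
    have h1 := cj_mono f hVX
    rwa [cj_eq_of_mem_normalizer (hFN hf)] at h1
  · by_contra hcon
    push Not at hcon
    apply hp.nK h.wcK hZM
    rw [← hnx]
    have : Fact (Nat.Prime 2) := ⟨Nat.prime_two⟩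
    have hNn : F ≤ normalizer ((F ⊓ centralizer (zc K₀ : Set G) : Subgroup G) : Set G) := by
      intro f hf
      rw [mem_normalizer_iff_cj, cj_inf, cj_centralizer, cj_eq_of_mem_normalizer (hFN hf),
        cj_eq_of_mem_normalizer (le_normalizer hf)]
    refine sup_le ?_ (sSup_le fun X hX' => hcon X ⟨hX'.1.trans hp.syl.1, hT2.to_le hX'.1, hX'.2⟩ hX'.1)
    rcases (hp.minPar h.wcK hZM).sup_eq_or_inf_le (p := 2) hT2 (syl_not_dvd hp.syl)
      (N := F ⊓ centralizer (zc K₀ : Set G)) inf_le_left hNn with h1 | h1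
    · exfalso
      apply hp.nM
      rw [← h1]
      refine sup_le ((inf_le_right.trans (centralizer_le ?_)).trans hD) hTM
      exact_mod_cast h.fr.ZJV.trans hVX
    · refine le_trans (fun x hx => ?_) h1
      exact ⟨hx.1, hp.syl.1 hx.1, hx.2⟩
  · have h1 : X ≤ nxt (S : Subgroup G) K₀ := by
      rw [← hnx]
      exact NO3S.Level.BO.le_nxt ⟨hXT, hXA.2.2⟩
    exact ⟨h1.trans hb.KB, Or.inr fun F' h1 h2 => hXA.2.2.max F' h2 h1⟩

end line

end Cfsg.Agent.Omega.OM.SwapT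

end

section


/-!
# THEOREM SW over `K₀`: supports of the elements of `Z_J`, `q = 2`

* `exists_norm` : elements of `Z_J` which are conjugate in `G` are conjugate in `N_G(B)`;
* `supp_card` (INV) : they have supports of the same size; `no_one_two` : `z_j` is not conjugate to `z_i z_k`, `i ≠ k`;
* `full_cent` : an element of `Z_J` of full support is centralised by every 2-group over `B`.
-/

set_option autoImplicit false

namespace Cfsg.Agent.Omega.OM.SwapT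

open Subgroup Cfsg Cfsg.Agent.ZN.ChoiceBase Cfsg.Agent.ZN.ChoiceSit
open Cfsg.Agent.ZN (jj zj bau zc zl o2)
open Cfsg.Agent.Omega.NO3S (HypN)
open Cfsg.Agent.Omega.NO3S.Level (lev nxt Lev wc_nxt BO)
open Cfsg.Agent.Omega.OM.LevD (LB)

universe u

variable {G : Type u} [Group G] [Finite G]

/-- elements of `Z_J` which are conjugate in `G` are conjugate in `N_G(B)` -/
theorem exists_norm {S : Sylow 2 G} {K₀ : Subgroup G} (hw : NO3b.Wc.WC (S : Subgroup G) K₀) {z z' g : G} (hz : z ∈ ZT (S : Subgroup G) K₀)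
    (hz' : z' ∈ ZT (S : Subgroup G) K₀) (e : g * z * g⁻¹ = z') :
    ∃ m ∈ normalizer (BT (S : Subgroup G) K₀ : Set G), m * z * m⁻¹ = z' := by
  have hB : BT (S : Subgroup G) K₀ ≤ centralizer ({z'} : Set G) := by
    intro b hb
    rw [mem_centralizer_singleton_iff]
    exact (mem_centralizer_iff.1 ((lb hw).Bc hb) z' hz').symm
  have hgB : cj g (BT (S : Subgroup G) K₀) ≤ centralizer ({z'} : Set G) := by
    rintro _ ⟨b, hb, rfl⟩
    rw [mem_centralizer_singleton_iff, ← e]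
    have h1 := mem_centralizer_iff.1 ((lb hw).Bc hb) z hz
    change g * b * g⁻¹ * (g * z * g⁻¹) = g * z * g⁻¹ * (g * b * g⁻¹)
    calc g * b * g⁻¹ * (g * z * g⁻¹) = g * (b * z) * g⁻¹ := by group
      _ = g * (z * b) * g⁻¹ := by rw [h1]
      _ = g * z * g⁻¹ * (g * b * g⁻¹) := by group
  obtain ⟨T, hT, hBT⟩ := exists_syl (lb hw).Bp hB
  obtain ⟨T', hT', hBT'⟩ := exists_syl (isPGroup_cj g (lb hw).Bp) hgB
  obtain ⟨c, hc, rfl⟩ := syl_conj hT hT'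
  have h3 : cj (c⁻¹ * g) (BT (S : Subgroup G) K₀) ≤ T := by
    have := cj_mono c⁻¹ hBT'
    rwa [cj_inv_cj, cj_cj] at this
  have h4 := wc hw T hT.2.1 hBT _ h3
  refine ⟨c⁻¹ * g, mem_normalizer_iff_cj.2 h4, ?_⟩
  have h5 : c * z' = z' * c := mem_centralizer_singleton_iff.1 hc
  calc c⁻¹ * g * z * (c⁻¹ * g)⁻¹ = c⁻¹ * (g * z * g⁻¹) * c := by group
    _ = c⁻¹ * (z' * c) := by rw [e]; group
    _ = z' := by rw [← h5]; group

section line

variable {ι : Type} [Finite ι] {S : Sylow 2 G} {P K₀ : Subgroup G} {L W Z C A : ι → Subgroup G}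

/-- **(INV)** -/
theorem supp_card (h : Lt S P K₀ L W Z C A 2) {z z' g : G} (hz : z ∈ ZT (S : Subgroup G) K₀)
    (hz' : z' ∈ ZT (S : Subgroup G) K₀) (e : g * z * g⁻¹ = z') : {i | z' ∉ C i}.ncard = {i | z ∉ C i}.ncard := by
  obtain ⟨m, hm, e'⟩ := exists_norm h.wcK hz hz' e
  choose σ hσ _ hσC using perm h hm
  have hinj : Function.Injective σ := fun i j hij => by
    apply Z_inj h
    have h1 := hσ i
    rw [hij, ← hσ j] at h1
    have := congrArg (cj m⁻¹) h1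
    rwa [cj_inv_cj, cj_inv_cj] at this
  have hsur : Function.Surjective σ := Finite.surjective_of_injective hinj
  have h1 : {i | z' ∉ C i} = σ '' {i | z ∉ C i} := by
    ext j
    constructor
    · intro hj
      obtain ⟨i, rfl⟩ := hsur j
      refine ⟨i, fun hc => hj ?_, rfl⟩
      rw [← e']
      exact (hσC i z hz).2 hc
    · rintro ⟨i, hi, rfl⟩ hc
      rw [← e'] at hc
      exact hi ((hσC i z hz).1 hc)
  rw [h1, Set.ncard_image_of_injective _ hinj]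

theorem supp_one (h : Lt S P K₀ L W Z C A 2) {i : ι} {z : G} (hz : z ∈ Z i) (h1 : z ≠ 1) : {j | z ∉ C j} = {i} := by
  ext j
  constructor
  · intro hj
    by_contra hne
    exact hj (Z_C h hne hz)
  · rintro rfl
    exact not_mem_C h hz h1

theorem supp_two (h : Lt S P K₀ L W Z C A 2) {i j : ι} (hij : i ≠ j) {z w : G} (hz : z ∈ Z i) (h1 : z ≠ 1)
    (hw : w ∈ Z j) (h2 : w ≠ 1) : {k | z * w ∉ C k} = {i, j} := by
  ext k
  simp only [Set.mem_setOf_eq, Set.mem_insert_iff, Set.mem_singleton_iff]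
  constructor
  · intro hk
    by_contra hne
    push Not at hne
    exact hk (mul_mem (Z_C h hne.1 hz) (Z_C h hne.2 hw))
  · rintro (rfl | rfl) hc
    · exact not_mem_C h hz h1 ((Subgroup.mul_mem_cancel_right _ (Z_C h hij hw)).1 hc)
    · exact not_mem_C h hw h2 ((Subgroup.mul_mem_cancel_left _ (Z_C h (Ne.symm hij) hz)).1 hc)

/-- `z_i z_k` is not conjugate to `z_j`. -/
theorem no_one_two (h : Lt S P K₀ L W Z C A 2) {i k j : ι} (hik : i ≠ k) {a b c g : G} (ha : a ∈ Z i) (ha1 : a ≠ 1)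
    (hb : b ∈ Z k) (hb1 : b ≠ 1) (hc : c ∈ Z j) (e : g * (a * b) * g⁻¹ = c) : False := by
  have hc1 : c ≠ 1 := by
    intro h1
    rw [h1] at e
    have h2 : a * b = 1 := by
      have := congrArg (fun t => g⁻¹ * t * g) e
      simpa [mul_assoc] using this
    have h3 : a ∈ C i := by
      have h4 : a = b⁻¹ := mul_eq_one_iff_eq_inv.1 h2
      rw [h4]
      exact inv_mem (Z_C h hik hb)
    exact not_mem_C h ha ha1 h3
  have h1 := supp_card h (mul_mem (h.fr.Z_le i ha) (h.fr.Z_le k hb)) (h.fr.Z_le j hc) e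
  rw [supp_one h hc hc1, supp_two h hik ha ha1 hb hb1, Set.ncard_singleton, Set.ncard_pair hik] at h1
  omega

/-- A conjugate of `z_i` in `Z_J` is a `z_j`. -/
theorem eq_single (h : Lt S P K₀ L W Z C A 2) {i : ι} {a y g : G} (ha : a ∈ Z i) (ha1 : a ≠ 1)
    (hy : y ∈ ZT (S : Subgroup G) K₀) (e : g * a * g⁻¹ = y) : ∃ j, y ∈ Z j ∧ y ∉ C j := by
  have h1 := supp_card h (h.fr.Z_le i ha) hy e
  rw [supp_one h ha ha1, Set.ncard_singleton, Set.ncard_eq_one] at h1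
  obtain ⟨j, hj⟩ := h1
  obtain ⟨z, hz, hz1⟩ := Z_ne h j
  have hyj : y ∉ C j := by
    have : j ∈ {i | y ∉ C i} := by rw [hj]; exact rfl
    exact this
  refine ⟨j, ?_, hyj⟩
  have h2 : y = z := eq_of_supp h hy (h.fr.Z_le j hz) fun k => by
    have h3 : k ∈ {i | y ∉ C i} ↔ k ∈ {i | z ∉ C i} := by rw [hj, supp_one h hz hz1]
    simp only [Set.mem_setOf_eq] at h3
    exact not_iff_not.1 h3
  rw [h2]
  exact hz

/-- An element of full support is centralised by every 2-group over `B`. -/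
theorem full_cent (h : Lt S P K₀ L W Z C A 2) {z : G} (hz : z ∈ ZT (S : Subgroup G) K₀) (hf : ∀ i, z ∉ C i)
    {T : Subgroup G} (hT : IsPGroup 2 T) (hB : BT (S : Subgroup G) K₀ ≤ T) {t : G} (ht : t ∈ T) : t * z = z * t :=
  comm_of_supp h ((lb h.wcK).two_le hT hB ht) hz fun i j _ => ⟨fun hc => absurd hc (hf i), fun hc => absurd hc (hf j)⟩

end line

end Cfsg.Agent.Omega.OM.SwapT

end
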